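import Cfsg.Agent.Lib.FischerRecog22.ModelType

/-!
Two facts on the presented `Fi22`: every involution commutes with a transposition, and two non-commuting
transpositions have a common neighbour.
-/

set_option autoImplicit false
set_option maxRecDepth 100000

namespace CfsgLib.FischerRecog22

open CfsgLib.CosetEnum
open CfsgLib.CosetEnum.Fi22U6 (z z_comm)
open Model22

theorem sign_eq_one (u : Cfsg.Spor.Fi22) : Equiv.Perm.sign (Fi22.π u) = 1 := by
  have : Finite Cfsg.Spor.Fi22 := Fi22.finite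
  have := Fi22.Simple.isSimple
  let f : Cfsg.Spor.Fi22 →* ℤˣ := Equiv.Perm.sign.comp Fi22.π
  rcases f.normal_ker.eq_bot_or_eq_top with h | h
  · have h1 := Nat.card_le_card_of_injective f ((MonoidHom.ker_eq_bot_iff _).1 h)
    rw [Fi22.card_group, Nat.card_eq_fintype_card, Fintype.card_units_int] at h1
    norm_num at h1
  · exact MonoidHom.mem_ker.1 (h ▸ Subgroup.mem_top u : u ∈ f.ker)

/-- An involution commutes with some transposition. -/
theorem fi22_fix (u : Cfsg.Spor.Fi22) (hu : u * u = 1) (_hu1 : u ≠ 1) :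
    ∃ x ∈ conjugatesOf z, Commute x u := by
  obtain ⟨p, hp⟩ : ∃ p, Fi22.π u p = p := by
    by_contra hno
    push Not at hno
    set f := Fi22.π u with hf
    have hsupp : f.support = Finset.univ :=
      Finset.eq_univ_iff_forall.2 fun p => Equiv.Perm.mem_support.2 (hno p)
    have hsq : f ^ 2 = 1 := by rw [pow_two, hf, ← map_mul, hu, map_one]
    have h2 : ∀ n ∈ f.cycleType, n = 2 := fun n hn => by
      have h1 := Equiv.Perm.dvd_of_mem_cycleType hn
      have h3 := Equiv.Perm.two_le_of_mem_cycleType hn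
      exact le_antisymm (Nat.le_of_dvd (by norm_num) (h1.trans (orderOf_dvd_of_pow_eq_one hsq))) h3
    have hsum := Equiv.Perm.sum_cycleType f
    rw [hsupp, Finset.card_univ, Fintype.card_fin, Multiset.eq_replicate_card.2 h2,
      Multiset.sum_replicate, smul_eq_mul] at hsum
    have hcard : Multiset.card f.cycleType = 1755 := by omega
    have hs := Equiv.Perm.sign_of_cycleType f
    rw [Multiset.eq_replicate_card.2 h2, Multiset.sum_replicate, Multiset.card_replicate, hcard,
      sign_eq_one, smul_eq_mul, Odd.neg_one_pow (by decide)] at hs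
    exact absurd hs (by decide)
  refine ⟨tp p, tp_mem p, ?_⟩
  have h := conj_tp u p
  rw [hp, mul_inv_eq_iff_eq_mul] at h
  exact h.symm

theorem lab_cases (r : Fin 3510) : Fi22.lab.get 20 r.val = 0 ∨ Fi22.lab.get 20 r.val = 1 ∨
    Fi22.lab.get 20 r.val = 2 := by
  have h3 := Nat.le_of_ble_eq_true (allFrom_spec _ _ _ Fi22U6.lab_lt r.val (Nat.zero_le _) (by
    have := r.2; omega))
  omega

/-- A point lies in the orbit of the root of its class. -/
theorem exists_from_root (r r₀ : Fin 3510) (c : ℕ) (hlab : Nat.beq (Fi22.lab.get 20 r₀.val) c = true)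
    (hroot : Nat.beq (Fi22.root.get 20 c) r₀.val = true) (hc : Fi22.lab.get 20 r.val = c) :
    ∃ w ∈ Fi22.H, Fi22.π w r₀ = r := by
  have h : r ∈ {k | ∃ w ∈ Fi22.H, Fi22.π w r₀ = k} := by
    rw [orbit_class Fi22.π Fi22.H Fi22.subTable Fi22.sub_spec.1 Fi22.sub_spec.2 Fi22.lab Fi22.orbPar
      Fi22.root Fi22.orbit_ok r₀ c hlab hroot]
    exact hc
  exact h

theorem π_z_comm {w : Cfsg.Spor.Fi22} (hw : w ∈ Fi22.H) (k : Fin 3510) :
    Fi22.π z (Fi22.π w k) = Fi22.π w (Fi22.π z k) := by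
  rw [← Equiv.Perm.mul_apply, ← map_mul, ← z_comm w hw, map_mul, Equiv.Perm.mul_apply]

/-- Three points. -/
abbrev pt1 : Fin 3510 := ⟨1, by omega⟩
/-- Three points. -/
abbrev pt6 : Fin 3510 := ⟨6, by omega⟩
/-- Three points. -/
abbrev pt16 : Fin 3510 := ⟨16, by omega⟩

theorem common_at (r : Fin 3510) (hr : ¬ Commute z (tp r)) :
    ∃ c ∈ conjugatesOf z, Commute z c ∧ Commute (tp r) c := by
  have hne : Fi22.π z r ≠ r := fun h => hr (by
    rw [← tp_zero] at h ⊢
    exact ((commute_tp_iff r p0).2 h).symm)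
  rcases lab_cases r with hc | hc | hc
  · obtain ⟨w, hw, rfl⟩ := exists_from_root r p0 0 (by decide +kernel) (by decide +kernel) hc
    refine absurd ?_ hne
    rw [π_z_comm hw, show Fi22.π z p0 = p0 from Fin.ext (by
      rw [π_z]; exact Nat.eq_of_beq_eq_true (by decide +kernel))]
  · obtain ⟨w, hw, hwr⟩ := exists_from_root r pt1 1
      (show Nat.beq (Fi22.lab.get 20 1) 1 = true by decide +kernel)
      (show Nat.beq (Fi22.root.get 20 1) 1 = true by decide +kernel) hc
    subst hwr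
    have hzs : Fi22.π z pt16 = pt16 := Fin.ext (by
      rw [π_z]; exact Nat.eq_of_beq_eq_true (by decide +kernel))
    have h1s : Fi22.π (tp pt1) pt16 = pt16 := Fin.ext (by
      rw [π_tp_word [1] (by decide) (Nat.eq_of_beq_eq_true (by decide +kernel))]
      exact Nat.eq_of_beq_eq_true (by decide +kernel))
    refine ⟨tp (Fi22.π w pt16), tp_mem _, ?_, ?_⟩
    · rw [← tp_zero]
      refine ((commute_tp_iff _ p0).2 ?_).symm
      rw [tp_zero, π_z_comm hw, hzs]
    · refine ((commute_tp_iff _ _).2 ?_).symm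
      rw [← conj_tp, map_mul, map_mul, map_inv, Equiv.Perm.mul_apply, Equiv.Perm.mul_apply,
        Equiv.Perm.inv_eq_iff_eq.2 rfl, h1s]
  · obtain ⟨w, hw, hwr⟩ := exists_from_root r pt6 2
      (show Nat.beq (Fi22.lab.get 20 6) 2 = true by decide +kernel)
      (show Nat.beq (Fi22.root.get 20 2) 6 = true by decide +kernel) hc
    subst hwr
    refine absurd ?_ hne
    rw [π_z_comm hw, show Fi22.π z pt6 = pt6 from Fin.ext (by
      rw [π_z]; exact Nat.eq_of_beq_eq_true (by decide +kernel))]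

/-- Two transpositions which do not commute have a common neighbour. -/
theorem fi22_common {x y : Cfsg.Spor.Fi22} (hx : x ∈ conjugatesOf z) (hy : y ∈ conjugatesOf z)
    (h : ¬ Commute x y) : ∃ c ∈ conjugatesOf z, Commute x c ∧ Commute y c := by
  obtain ⟨g, rfl⟩ := isConj_iff.1 hx
  obtain ⟨p, rfl⟩ := exists_tp hy
  have ht : g⁻¹ * tp p * (g⁻¹)⁻¹ = tp (Fi22.π g⁻¹ p) := conj_tp g⁻¹ p
  have key : ∀ a b : Cfsg.Spor.Fi22, Commute a b → Commute (g * a * g⁻¹) (g * b * g⁻¹) := fun a b hab =>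
    hab.map (MulAut.conj g).toMonoidHom
  have hp : g * tp (Fi22.π g⁻¹ p) * g⁻¹ = tp p := by rw [← ht]; group
  obtain ⟨c, hc, h1, h2⟩ := common_at (Fi22.π g⁻¹ p) (fun hco => h (hp ▸ key _ _ hco))
  exact ⟨g * c * g⁻¹, IsConj.trans hc (isConj_iff.2 ⟨g, rfl⟩), key _ _ h1, hp ▸ key _ _ h2⟩

end CfsgLib.FischerRecog22
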