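import Cfsg.Agent.Lib.FischerRecog22.Inner
import Cfsg.Agent.Lib.FischerRecog22.ModelFacts
import Cfsg.Agent.Lib.FischerModel.Fi22Class

set_option autoImplicit false

/-!
The image of `Fi22` is everything.
-/

namespace CfsgLib.FischerRecog22

open CfsgLib.CosetEnum
open CfsgLib.CosetEnum.Fi22U6 (z)
open CfsgLib.ThreeTrans (link)

universe u

local notation "F22" => Cfsg.Spor.Fi22

theorem commute_g0_g3 : Commute z (Fi22.g 3) := by
  have h := (Fi22.lsWords [0, 3, 0, 3] (by decide +kernel)).2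
  simp only [List.map_cons, List.map_nil, List.prod_cons, List.prod_nil, mul_one] at h
  show Fi22.g 0 * Fi22.g 3 = Fi22.g 3 * Fi22.g 0
  rw [← mul_assoc] at h
  rw [eq_inv_of_mul_eq_one_left h, mul_inv_rev, Fi22U6.g_inv 0 (by norm_num),
    Fi22U6.g_inv 3 (by norm_num)]

theorem table_ne : ((List.range 3510).any fun k =>
    !Nat.beq (act Fi22.table 3 k) (act Fi22.table 0 k)) = true := by decide +kernel

theorem g3_ne_g0 : Fi22.g 3 ≠ z := by
  intro e
  obtain ⟨k, hk, hne⟩ := List.any_eq_true.1 table_ne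
  have h3 := Fi22U6.π_g 3 (by norm_num) ⟨k, List.mem_range.1 hk⟩
  have h0 := Fi22U6.π_g 0 (by norm_num) ⟨k, List.mem_range.1 hk⟩
  rw [e] at h3
  simp only [Bool.not_eq_true'] at hne
  rw [show act Fi22.table 3 k = act Fi22.table 0 k from h3.symm.trans h0] at hne
  simp at hne

/-- An embedded copy of `Fi22` containing the centraliser of its distinguished member is everything. -/
theorem range_eq_top {G : Type u} [Group G] [Finite G] {F : Type} [Field F] [Fintype F]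
    {hF : Fintype.card F = 2 ^ 2} {a : G} (R : Recog hF (conjugatesOf a)) (φ : F22 →* G)
    (hinj : Function.Injective φ) (hz : φ z = a)
    (hC : Subgroup.centralizer ({a} : Set G) ≤ φ.range)
    (hlink : ∀ x ∈ link (conjugatesOf a) a, ∀ y ∈ link (conjugatesOf a) a,
      ∃ c, Commute c a ∧ c * x * c⁻¹ = y) : φ.range = ⊤ := by
  haveI : Finite F22 := Fi22.finite
  haveI : IsSimpleGroup F22 := Fi22.Simple.isSimple
  have hcls : ∀ {x}, x ∈ conjugatesOf z → φ x ∈ conjugatesOf a := fun {x} hx => by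
    rw [← hz]; exact φ.map_isConj hx
  have hmap : ∀ (t : F22) {x}, x ∈ conjugatesOf z → t * x * t⁻¹ ∈ conjugatesOf z := fun t {x} hx =>
    IsConj.trans hx (isConj_iff.2 ⟨t, rfl⟩)
  -- members of the link are images
  obtain ⟨t₂, ht₂, hc₂, hne₂⟩ : ∃ t ∈ conjugatesOf z, Commute z t ∧ t ≠ z :=
    ⟨Fi22.g 3, FischerModel.isConj_a 3 (by norm_num), commute_g0_g3, g3_ne_g0⟩
  have him : ∀ x ∈ conjugatesOf a, Commute a x → ∃ y ∈ conjugatesOf z, φ y = x := by
    intro x hx hax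
    by_cases hxa : x = a
    · exact ⟨z, mem_conjugatesOf_self, hz.trans hxa.symm⟩
    have h2 : φ t₂ ∈ link (conjugatesOf a) a :=
      ⟨hcls ht₂, fun e => hne₂ (hinj (e.trans hz.symm)), hz ▸ hc₂.map φ⟩
    obtain ⟨c, hc, rfl⟩ := hlink _ h2 x ⟨hx, hxa, hax⟩
    obtain ⟨w, rfl⟩ := hC (Subgroup.mem_centralizer_singleton_iff.2 hc.eq)
    exact ⟨w * t₂ * w⁻¹, hmap w ht₂, by rw [map_mul, map_mul, map_inv]⟩
  have hback : ∀ (t : F22) (x : G), Commute x (φ (t * z * t⁻¹)) → Commute a (φ t⁻¹ * x * φ t) := by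
    intro t x h
    rw [map_mul, map_mul, map_inv, hz] at h
    rw [map_inv]
    exact (commute_back h).symm
  have hfix : ∀ u ∈ φ.range, u * u = 1 → u ≠ 1 →
      ∃ y ∈ conjugatesOf z, Commute (φ y) u := by
    rintro _ ⟨w, rfl⟩ h2 h1
    obtain ⟨y, hy, hyw⟩ := fi22_fix w (hinj (by rw [map_mul, map_one, h2])) (fun e => h1 (by rw [e, map_one]))
    exact ⟨y, hy, hyw.map φ⟩
  have hmem : ∀ x ∈ conjugatesOf a, x ∈ φ.range → ∃ y ∈ conjugatesOf z, φ y = x := by
    intro x hx hxM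
    obtain ⟨y, hy, hyx⟩ := hfix x hxM (R.sq hx) (R.ne_one hx)
    obtain ⟨t, rfl⟩ := isConj_iff.1 hy
    obtain ⟨y', hy', e⟩ := him (φ t⁻¹ * x * φ t) (by
      have := R.conj (φ t⁻¹) x hx
      rwa [map_inv, inv_inv, ← map_inv] at this) (hback t x hyx.symm)
    exact ⟨t * y' * t⁻¹, hmap t hy', by rw [map_mul, map_mul, e, map_inv]; group⟩
  refine Inner.eq_top (D := conjugatesOf a) ?_ R mem_conjugatesOf_self ⟨z, hz⟩
  refine
    { cls := fun x hx y hy => isConj_iff.1 ((IsConj.symm hx).trans hy)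
      cen := ?_
      trans := ?_
      fix := fun u hu h2 h1 => ?_
      common := ?_
      simple := ?_ }
  · intro x hx hxM g hg
    obtain ⟨y, hy, rfl⟩ := hmem x hx hxM
    obtain ⟨t, rfl⟩ := isConj_iff.1 hy
    obtain ⟨w, hw⟩ := hC (Subgroup.mem_centralizer_singleton_iff.2 (hback t g hg).symm.eq)
    exact ⟨t * w * t⁻¹, by rw [map_mul, map_mul, hw, map_inv]; group⟩
  · intro x hx hxM y hy hyM
    obtain ⟨p, hp, rfl⟩ := hmem x hx hxM
    obtain ⟨q, hq, rfl⟩ := hmem y hy hyM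
    obtain ⟨t, rfl⟩ := isConj_iff.1 ((IsConj.symm hp).trans hq)
    exact ⟨φ t, ⟨t, rfl⟩, by rw [map_mul, map_mul, map_inv]⟩
  · obtain ⟨y, hy, h⟩ := hfix u hu h2 h1
    exact ⟨φ y, hcls hy, ⟨y, rfl⟩, h⟩
  · intro x hx hxM y hy hyM hn
    obtain ⟨p, hp, rfl⟩ := hmem x hx hxM
    obtain ⟨q, hq, rfl⟩ := hmem y hy hyM
    obtain ⟨c, hc, h1, h2⟩ := fi22_common hp hq fun h => hn (h.map φ)
    exact ⟨φ c, hcls hc, ⟨c, rfl⟩, h1.map φ, h2.map φ⟩
  · intro N hN hnorm hne
    haveI : (N.comap φ).Normal := ⟨fun n hn g => by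
      show φ (g * n * g⁻¹) ∈ N
      rw [map_mul, map_mul, map_inv]
      exact hnorm _ ⟨g, rfl⟩ _ hn⟩
    rcases (‹(N.comap φ).Normal› : (N.comap φ).Normal).eq_bot_or_eq_top with h | h
    · refine absurd (eq_bot_iff.2 fun x hx => ?_) hne
      obtain ⟨w, rfl⟩ := hN hx
      have : w ∈ N.comap φ := hx
      rw [h, Subgroup.mem_bot] at this
      rw [this, map_one]; exact Subgroup.one_mem _
    · rintro _ ⟨w, rfl⟩
      show w ∈ N.comap φ
      rw [h]; trivial

end CfsgLib.FischerRecog22
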