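import Cfsg.Agent.Lib.FischerRecog22.Inner
import Cfsg.Agent.Lib.FischerFi22.Iso
import Cfsg.Agent.Lib.CosetEnum.Fi22U6.Cover

set_option autoImplicit false

/-!
A group with unitary links receives `Fi22`.
-/

namespace CfsgLib.FischerRecog22

open Subgroup CfsgLib.FischerFi22
open CfsgLib.Classical.Herm HermSpace
open CfsgLib.ThreeTrans (link mul_self inv_eq commute_conj_iff' conj_self_of_commute cube_eq_one)
open CfsgLib.CosetEnum (linv scan invWord)

universe u

variable {G : Type u} [Group G] {D : Set G} {F : Type} [Field F] [Fintype F]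
  {hF : Fintype.card F = 2 ^ 2} {P P' : (Fin 6 → F) → G → Prop} {x : Fin 9 → G} {a : G}

/-- The members commuting with a member form a set of 3-transpositions. -/
theorem near_commute (R : Recog hF D) {w : G} (hw : w ∈ D) :
    Cfsg.IsThreeTranspositionSet {y | y ∈ D ∧ Commute w y} :=
  ⟨fun y hy => R.invol y hy.1, fun y hy z hz => R.near hy.1 hz.1 hw hy.2 hz.2⟩

theorem link_restrict : link {y | y ∈ D ∧ Commute a y} a = link D a := by
  ext y
  exact ⟨fun h => ⟨h.1.1, h.2⟩, fun h => ⟨⟨h.1, h.2.2⟩, h.2⟩⟩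

theorem uni_restrict (R : Recog hF D) (U : Uni hF D a P) : Uni hF {y | y ∈ D ∧ Commute a y} a P := by
  have e := link_restrict (D := D) (a := a)
  exact
    { base := ⟨U.base, Commute.refl a⟩
      self_mem := by rw [e]; exact U.self_mem
      mem := fun h => by rw [e]; exact U.mem h
      iso := fun h => U.iso h
      ne := fun h => U.ne h
      surj := fun y hy => U.surj y (e ▸ hy)
      exists_pt := U.exists_pt
      smul := fun h h' => U.smul h h'
      inj := fun h h' => U.inj h h'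
      uniq := fun h h' => U.uniq h h'
      comm := fun h h' => U.comm h h'
      act := fun z hz => U.act z (e ▸ hz)
      refl := fun h h' => U.refl h h'
      kernel := fun z hz hall => U.kernel z (e ▸ hz) fun y hy => hall y (by rw [e]; exact hy) }

theorem diag_common : ∀ i j : Fin 9, ∃ k, y332 k i = false ∧ y332 k j = false := by decide +kernel

theorem diag_set (R : Recog hF D) (H : Diag D x) : Cfsg.IsThreeTranspositionSet (Set.range x) := by
  refine ⟨?_, ?_⟩
  · rintro _ ⟨i, rfl⟩
    exact R.invol _ (H.mem i)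
  · rintro _ ⟨i, rfl⟩ _ ⟨j, rfl⟩
    obtain ⟨k, hi, hj⟩ := diag_common i j
    exact R.near (H.mem i) (H.mem j) (H.mem k) (H.comm k i hi) (H.comm k j hj)

theorem diag_range (H : Diag D x) : Diag (Set.range x) x :=
  ⟨fun i => ⟨i, rfl⟩, H.comm, H.nc⟩

variable [Finite G]

/-- The diagram exists. -/
theorem diag_exists (R : Recog hF D) {a : G} (U : Uni hF D a P) :
    ∃ x : Fin 9 → G, x 0 = a ∧ Diag D x := by
  obtain ⟨b, hb, hab, w, hw⟩ := R.some_pair a U.base
  have hS := R.sect U hb hab hw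
  obtain ⟨p, hp, hpat⟩ := hS.exists_path U Set.inter_subset_left ⟨w, hw⟩
  have key : ∀ i j : Fin 6, pathAdj i j = 0 ↔ ¬ (i.val + 1 = j.val ∨ j.val + 1 = i.val) := by
    decide +kernel
  obtain ⟨v, W⟩ := U.exists_frame (fun i => (hp i).1) hpat
  have hT : (stdHerm hF 6).h (vec hF v ![0, 0, 0, 1, 0, 1]) (vec hF v ![0, 0, 0, 1, 0, 1]) = 0 := by
    rw [W.h_vec, show pathBil ![0, 0, 0, 1, 0, 1] ![0, 0, 0, 1, 0, 1] = 0 by decide +kernel, map_zero]
  obtain ⟨c, hcP⟩ := U.exists_pt _ hT (fun h0 => by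
    have := W.h_vec ![0, 0, 0, 1, 0, 1] (Pi.single 2 1)
    rw [h0, (stdHerm hF 6).zero_left,
      show pathBil ![0, 0, 0, 1, 0, 1] (Pi.single 2 1) = 1 by decide +kernel, map_one] at this
    exact zero_ne_one this)
  have hcl := U.mem hcP
  have hcom : ∀ i, Commute c (p i) ↔ pathBil ![0, 0, 0, 1, 0, 1] (Pi.single i 1) = 0 := fun i =>
    W.comm_iff U hcP (W.coord i)
  have cp : ∀ i : Fin 6, i ≠ 2 → Commute c (p i) := fun i hi =>
    (hcom i).2 (by revert hi; revert i; decide +kernel)
  have nd : ¬ Commute c (p 2) := fun h => absurd ((hcom 2).1 h) (by decide +kernel)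
  have hbc : ¬ Commute b c := by
    intro hbc
    have hne : c ≠ b := fun h => hab (h ▸ hcl.2.2)
    exact hS.no_coord U W hp (z := c) ⟨hcl, hcl.1, hne, hbc⟩
      (List.mem_cons_of_mem _ (List.mem_cons_self ..)) hcP
  refine ⟨![a, b, c, p 2, p 3, p 4, p 5, p 1, p 0], rfl, ⟨?_, ?_, ?_⟩⟩
  · intro i
    fin_cases i
    exacts [U.base, hb, hcl.1, (hp 2).1.1, (hp 3).1.1, (hp 4).1.1, (hp 5).1.1, (hp 1).1.1, (hp 0).1.1]
  all_goals intro i j h
  · have hab' : ∀ k, Commute a (p k) ∧ Commute b (p k) := fun k => ⟨(hp k).1.2.2, (hp k).2.2.2⟩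
    have hpp : ∀ k l : Fin 6, pathAdj k l = 0 → Commute (p k) (p l) := fun k l h0 => by
      by_cases hkl : k = l
      · subst hkl; exact Commute.refl _
      · exact (hpat k l hkl).2 ((key k l).1 h0)
    fin_cases i <;> fin_cases j <;> first
      | exact absurd h (by decide)
      | exact Commute.refl _
      | exact hcl.2.2
      | exact hcl.2.2.symm
      | exact (hab' _).1
      | exact (hab' _).1.symm
      | exact (hab' _).2
      | exact (hab' _).2.symm
      | exact cp _ (by decide)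
      | exact (cp _ (by decide)).symm
      | exact hpp _ _ (by decide)
  · have hpn : ∀ k l : Fin 6, k ≠ l → pathAdj k l ≠ 0 → ¬ Commute (p k) (p l) :=
      fun k l hkl h1 h2 => h1 ((key k l).2 ((hpat k l hkl).1 h2))
    fin_cases i <;> fin_cases j <;> first
      | exact absurd h (by decide)
      | exact hab
      | exact fun h => hab h.symm
      | exact hbc
      | exact fun h => hbc h.symm
      | exact nd
      | exact fun h => nd h.symm
      | exact hpn _ _ (by decide) (by decide)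


/-- The relation of a sub-diagram of type `E7`. -/
theorem relation_e7 (R : Recog hF D) (H : Diag D x) (U : Uni hF D (x 0) P) :
    (x 0 * x 1 * x 2 * x 3 * x 4 * x 5 * x 7) ^ 9 = 1 := by
  have hset' := diag_set R H
  have H' := diag_range H
  set g := letter7 x nodeE7 with hg
  have hsq : ∀ n, g n * g n = 1 := letter7_sq hset' H' nodeE7
  have e0 : g 0 = x 0 := by simp [hg, letter7, nodeE7]
  have e1 : g 1 = x 1 := by simp [hg, letter7, nodeE7]
  have e2 : g 2 = x 2 := by simp [hg, letter7, nodeE7]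
  have e3 : g 3 = x 3 := by simp [hg, letter7, nodeE7]
  have e4 : g 4 = x 4 := by simp [hg, letter7, nodeE7]
  have e5 : g 5 = x 5 := by simp [hg, letter7, nodeE7]
  have e6 : g 6 = x 7 := by simp [hg, letter7, nodeE7]
  set z := (E7Cert.zWord.map g).prod with hzdef
  have hz : (x 0 * x 1 * x 2 * x 3 * x 4 * x 5 * x 7) ^ 9 = z := by
    rw [hzdef, show E7Cert.zWord = (List.replicate 9 [0, 1, 2, 3, 4, 5, 6]).flatten by decide +kernel,
      prod_flatten_replicate]
    simp [e0, e1, e2, e3, e4, e5, e6, mul_assoc]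
  rw [hz]
  set K := closure (link D (x 0)) with hK
  have hxK : ∀ i : Fin 9, y332 0 i = false → x i ∈ K := fun i hi =>
    mem_closure_link U.self_mem (H.mem i) (H.comm 0 i hi)
  -- the member completing the subgroup
  set q3 := x 4 * x 3 * x 7 * x 3 * x 4 with hq3
  set q4 := x 3 * x 2 * q3 * x 2 * x 3 with hq4
  set q5 := x 2 * x 1 * q4 * x 1 * x 2 with hq5
  set p6 := x 1 * x 0 * q5 * x 0 * x 1 with hp6
  have c3 : Commute (x 3) q3 :=
    commute_nested (H'.braid' hset' 4 3 (by decide)) (H.comm 4 7 (by decide))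
  have c2 : Commute (x 2) q4 := commute_nested (H'.braid' hset' 3 2 (by decide)) c3
  have c1 : Commute (x 1) q5 := commute_nested (H'.braid' hset' 2 1 (by decide)) c2
  have c0 : Commute (x 0) p6 := commute_nested (H'.braid' hset' 1 0 (by decide)) c1
  have cc : ∀ (i : Fin 9) {y : G}, y ∈ D → x i * y * x i ∈ D := fun i y hy => by
    have := R.conj (x i) y hy
    rwa [inv_eq hset' (H'.mem i)] at this
  have hpD : p6 ∈ D := by
    have h := cc 1 (cc 0 (cc 2 (cc 1 (cc 3 (cc 2 (cc 4 (cc 3 (H.mem 7))))))))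
    simpa only [hp6, hq5, hq4, hq3, mul_assoc] using h
  have hsub : ∀ l ∈ E7Cert.subWords, (∀ n ∈ l, n < 16) ∧ (l.map g).prod ∈ K := by
    intro l hl
    refine ⟨(show ∀ l ∈ E7Cert.subWords, ∀ n ∈ l, n < 16 by decide +kernel) l hl, ?_⟩
    simp only [E7Cert.subWords, List.mem_cons, List.not_mem_nil, or_false] at hl
    rcases hl with rfl | rfl | rfl | rfl | rfl | rfl | rfl
    · simpa [e0] using U.self_mem
    · simpa [e2] using hxK 2 (by decide)
    · simpa [e3] using hxK 3 (by decide)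
    · simpa [e4] using hxK 4 (by decide)
    · simpa [e5] using hxK 5 (by decide)
    · simpa [e6] using hxK 7 (by decide)
    · have hb := H'.braid' hset' 7 3 (by decide)
      have : p6 ∈ K := mem_closure_link U.self_mem hpD c0
      simp only [List.map_cons, List.map_nil, List.prod_cons, List.prod_nil, mul_one, e0, e1, e2,
        e3, e4, e6]
      convert this using 1
      simp only [hp6, hq5, hq4, hq3, mul_assoc]
      rw [← mul_assoc (x 7) (x 3), ← mul_assoc (x 7 * x 3) (x 7), hb]
      simp only [mul_assoc]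
  have hmove : ∀ u ∈ moveE7, (u.map g).prod * z * (u.map g).prod⁻¹ ∈ K := by
    intro u hu
    obtain ⟨hlt, hscan⟩ := e7_scan u hu
    simp only [List.all_eq_true, decide_eq_true_eq] at hlt
    rw [hzdef, ← prod_conj_word g hsq]
    refine prod_mem_of_scan (ip := E7Cert.ip) (by simp [hg, letter7])
      (hinv_of_letters e7_ip fun n _ => hsq n) K E7Cert.cert E7Cert.cert_ok (fun l hl => ?_) hsub hlt
      hscan
    exact ⟨(show ∀ l ∈ E7Cert.rels, ∀ n ∈ l, n < 16 by decide +kernel) l hl,
      letter7_cox hset' H' nodeE7 l (e7_rels l hl)⟩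
  have hzK : z ∈ K := by
    have := hmove [] (by decide)
    simpa using this
  have hcen : ∀ y ∈ K, Commute y (x 0) := fun y hy => mem_centralizer_singleton_iff.1
    (CfsgLib.FischerUnique.closure_link_le_centralizer hy)
  have hzc : ∀ u ∈ moveE7, Commute z ((u.map g).prod⁻¹ * x 0 * (u.map g).prod) := fun u hu =>
    conj_commute (hcen _ (hmove u hu))
  have u1 := conj_step (a := x 0) (hsq 0) (hsq 1) (t := g 1) (U := 1)
    (by rw [e0, e1]; exact H'.braid' hset' 1 0 (by decide)) (by simp [e0])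
  have u2 := conj_step (hsq 1) (hsq 2) (by rw [e1, e2]; exact H'.braid' hset' 2 1 (by decide)) u1
  have u3 := conj_step (hsq 2) (hsq 3) (by rw [e2, e3]; exact H'.braid' hset' 3 2 (by decide)) u2
  have u4 := conj_step (hsq 3) (hsq 4) (by rw [e3, e4]; exact H'.braid' hset' 4 3 (by decide)) u3
  have u5 := conj_step (hsq 4) (hsq 5) (by rw [e4, e5]; exact H'.braid' hset' 5 4 (by decide)) u4
  have u6 := conj_step (hsq 3) (hsq 6) (by rw [e3, e6]; exact H'.braid' hset' 7 3 (by decide)) u3
  have z1 : Commute z (x 1) := by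
    have := hzc [1, 0] (by decide)
    rwa [show ([1, 0].map g).prod = 1 * g 1 * g 0 by simp, u1, e1] at this
  have z2 : Commute z (x 2) := by
    have := hzc [1, 0, 2, 1] (by decide)
    rwa [show ([1, 0, 2, 1].map g).prod = 1 * g 1 * g 0 * g 2 * g 1 by simp [mul_assoc], u2,
      e2] at this
  have z3 : Commute z (x 3) := by
    have := hzc [1, 0, 2, 1, 3, 2] (by decide)
    rwa [show ([1, 0, 2, 1, 3, 2].map g).prod = 1 * g 1 * g 0 * g 2 * g 1 * g 3 * g 2 by
      simp [mul_assoc], u3, e3] at this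
  have z4 : Commute z (x 4) := by
    have := hzc [1, 0, 2, 1, 3, 2, 4, 3] (by decide)
    rwa [show ([1, 0, 2, 1, 3, 2, 4, 3].map g).prod =
      1 * g 1 * g 0 * g 2 * g 1 * g 3 * g 2 * g 4 * g 3 by simp [mul_assoc], u4, e4] at this
  have z5 : Commute z (x 5) := by
    have := hzc [1, 0, 2, 1, 3, 2, 4, 3, 5, 4] (by decide)
    rwa [show ([1, 0, 2, 1, 3, 2, 4, 3, 5, 4].map g).prod =
      1 * g 1 * g 0 * g 2 * g 1 * g 3 * g 2 * g 4 * g 3 * g 5 * g 4 by simp [mul_assoc], u5,
      e5] at this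
  have z7 : Commute z (x 7) := by
    have := hzc [1, 0, 2, 1, 3, 2, 6, 3] (by decide)
    rwa [show ([1, 0, 2, 1, 3, 2, 6, 3].map g).prod =
      1 * g 1 * g 0 * g 2 * g 1 * g 3 * g 2 * g 6 * g 3 by simp [mul_assoc], u6, e6] at this
  -- the five points
  obtain ⟨v, W⟩ := H.exists_frame (Or.inl rfl) U
  have hcc := H.coord_c U W
  have hlam : ∀ f : Unit' (stdHerm hF 6), (∀ {w s}, P w s → P (f.1 w) (z * s * z⁻¹)) →
      ∃ lam : F, lam ≠ 0 ∧ ∀ i, i ≠ 0 → f.1 (v i) = lam • v i := by
    intro f hf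
    obtain ⟨l1, n1, h1⟩ := U.eigen hf (W.pts 1) z7
    obtain ⟨l2, n2, h2⟩ := U.eigen hf (W.pts 2) z3
    obtain ⟨l3, n3, h3⟩ := U.eigen hf (W.pts 3) z4
    obtain ⟨l4, n4, h4⟩ := U.eigen hf (W.pts 4) z5
    obtain ⟨lc, nc, hcl⟩ := U.eigen hf hcc z2
    have q12 : l1 = l2 := eigen_eq n2 h1 h2 (by rw [W.gram]; simp)
    have q32 : l3 = l2 := eigen_eq n2 h3 h2 (by rw [W.gram]; simp)
    have q43 : l4 = l3 := eigen_eq n3 h4 h3 (by rw [W.gram]; simp)
    have qc2 : lc = l2 := eigen_eq n2 hcl h2 (by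
      rw [← vec_single (hF := hF) (v := v) 2, W.h_vec,
        show pathBil ![0, 0, 0, 1, 0, 1] (Pi.single 2 1) = 1 by decide +kernel, map_one]
      exact one_ne_zero)
    rw [q12] at h1
    rw [q32] at h3
    rw [q43, q32] at h4
    rw [qc2] at hcl
    refine ⟨l2, n2, fun i hi => ?_⟩
    fin_cases i
    · exact absurd rfl hi
    · exact h1
    · exact h2
    · exact h3
    · exact h4
    · have hsplit : vec hF v ![0, 0, 0, 1, 0, 1] = v 3 + v 5 := by
        simp [vec, Fin.sum_univ_six]
      rw [hsplit, map_add, h3, smul_add] at hcl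
      exact add_left_cancel hcl
  rcases W.fix_five (uni_restrict R U) (by rw [link_restrict]; exact hzK) 0 ![0, 1, 0, 1, 0, 1]
      (by decide +kernel) (by decide +kernel) rfl (near_commute R (H.mem 0)) hlam
    with h | h | ⟨t, ht, h | h⟩
  · exact h
  · exact absurd (h ▸ z1) (H.nc 0 1 (by decide))
  · exfalso
    have htl : t ∈ link D (x 0) := U.mem ht
    have htb : t ≠ x 1 := fun he => H.nc 0 1 (by decide) (he ▸ htl.2.2)
    have htS : t ∈ link D (x 0) ∩ link D (x 1) := ⟨htl, htl.1, htb, (h ▸ z1).symm⟩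
    have hcom : ∀ i, Commute t (x (pathNode i)) ↔
        pathBil ![0, 1, 0, 1, 0, 1] (Pi.single i 1) = 0 := fun i => W.comm_iff U ht (W.coord i)
    have hmem : ∀ i, x (pathNode i) ∈ link D (x 0) ∩ link D (x 1) := fun i => by
      have key : ∀ i, (0 : Fin 9) ≠ pathNode i ∧ (1 : Fin 9) ≠ pathNode i ∧
        y332 0 (pathNode i) = false ∧ y332 1 (pathNode i) = false := by decide +kernel
      exact ⟨H.mem_link (key i).1 (key i).2.2.1, H.mem_link (key i).2.1 (key i).2.2.2⟩
    exact (R.sect U (H.mem 1) (H.nc 0 1 (by decide)) (hmem 2)).no_coord U W hmem htS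
      (List.mem_cons_self ..) ht
  · have hl : Commute t (x (pathNode 2)) := (W.comm_iff U ht (W.coord 2)).2 (by decide +kernel)
    exact (not_commute_mul_self (near_commute R (H.mem 3))
      (show x 0 ∈ {y | y ∈ D ∧ Commute (x 3) y} from ⟨H.mem 0, H.comm 3 0 (by decide)⟩)
      ⟨H.mem 1, H.comm 3 1 (by decide)⟩ ⟨⟨(U.mem ht).1, hl.symm⟩, (U.mem ht).2⟩ (H.nc 0 1 (by decide))
      (h ▸ z1)).elim

/-- The relation of the sub-diagram of type affine `E6`. -/
theorem relation_e6 (R : Recog hF D) (H : Diag D x) (U : Uni hF D (x 0) P) (U' : Uni hF D (x 1) P') :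
    (x 3 * x 2 * x 1 * x 3 * x 4 * x 5 * x 3 * x 7 * x 8) ^ 10 = 1 := by
  have hset' := diag_set R H
  have H' := diag_range H
  set g := letter7 x nodeE6 with hg
  have hsq : ∀ n, g n * g n = 1 := letter7_sq hset' H' nodeE6
  have e0 : g 0 = x 1 := by simp [hg, letter7, nodeE6]
  have e1 : g 1 = x 2 := by simp [hg, letter7, nodeE6]
  have e2 : g 2 = x 3 := by simp [hg, letter7, nodeE6]
  have e3 : g 3 = x 4 := by simp [hg, letter7, nodeE6]
  have e4 : g 4 = x 5 := by simp [hg, letter7, nodeE6]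
  have e5 : g 5 = x 7 := by simp [hg, letter7, nodeE6]
  have e6 : g 6 = x 8 := by simp [hg, letter7, nodeE6]
  -- the highest root
  obtain ⟨v, W⟩ := H.exists_frame (Or.inl rfl) U
  have hcc := H.coord_c U W
  let C : Fin 9 → Fin 6 → ZMod 2 := ![0, 0, ![0, 0, 0, 1, 0, 1], Pi.single 2 1, Pi.single 3 1,
    Pi.single 4 1, Pi.single 5 1, Pi.single 1 1, Pi.single 0 1]
  have hC : ∀ i : Fin 9, 2 ≤ i.val → Coord hF P v (C i) (x i) := by
    intro i hi
    fin_cases i
    · simp at hi
    · simp at hi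
    · exact hcc
    · exact W.coord 2
    · exact W.coord 3
    · exact W.coord 4
    · exact W.coord 5
    · exact W.coord 1
    · exact W.coord 0
  let us : List (Fin 9) := [2, 3, 7, 8, 4, 3, 7, 5, 4, 3]
  have husC : ∀ p ∈ us.map fun i => (x i, C i), Coord hF P v p.2 p.1 := by
    intro p hp
    obtain ⟨i, hi, rfl⟩ := List.mem_map.1 hp
    exact hC i ((show ∀ i ∈ us, 2 ≤ i.val by decide) i hi)
  have hX := W.coord_word U _ husC hcc
  set X := (us.map fun i => (x i, C i)).foldr (fun p w => p.1 * w * p.1⁻¹) (x 2) with hXdef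
  set zX := (us.map fun i => (x i, C i)).foldr (fun p w => w + pathBil w p.2 • p.2)
    ![0, 0, 0, 1, 0, 1] with hzX
  have hzXv : zX = us.foldr (fun i w => w + pathBil w (C i) • C i) ![0, 0, 0, 1, 0, 1] := by
    rw [hzX, List.foldr_map]
  have hXe : (xWord.map g).prod = X := by
    simp [xWord, hXdef, us, e1, e2, e3, e4, e5, e6, inv_eq hset' (H'.mem _), mul_assoc]
  have hXl : X ∈ link D (x 0) := U.mem hX
  have hXcom : ∀ i : Fin 6, i ≠ 5 → Commute X (x (pathNode i)) := fun i hi =>
    (W.comm_iff U hX (W.coord i)).2 (by rw [hzXv]; revert hi; revert i; decide +kernel)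
  have hbX : ¬ Commute (x 1) X := by
    intro hbX
    have hne : X ≠ x 1 := fun he => H.nc 0 1 (by decide) (he ▸ hXl.2.2)
    have hmem : ∀ i, x (pathNode i) ∈ link D (x 0) ∩ link D (x 1) := fun i => by
      have key : ∀ i, (0 : Fin 9) ≠ pathNode i ∧ (1 : Fin 9) ≠ pathNode i ∧
        y332 0 (pathNode i) = false ∧ y332 1 (pathNode i) = false := by decide +kernel
      exact ⟨H.mem_link (key i).1 (key i).2.2.1, H.mem_link (key i).2.1 (key i).2.2.2⟩
    exact (R.sect U (H.mem 1) (H.nc 0 1 (by decide)) (hmem 2)).no_coord U W hmem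
      ⟨hXl, hXl.1, hne, hbX⟩ (y := zX) (by rw [hzXv]; decide +kernel) hX
  set z := (E6Cert.zWord.map g).prod with hzdef
  have hz : (x 3 * x 2 * x 1 * x 3 * x 4 * x 5 * x 3 * x 7 * x 8) ^ 10 = z := by
    rw [hzdef, show E6Cert.zWord = (List.replicate 10 [2, 1, 0, 2, 3, 4, 2, 5, 6]).flatten by
      decide +kernel, prod_flatten_replicate]
    simp [e0, e1, e2, e3, e4, e5, e6, mul_assoc]
  rw [hz]
  set K := closure (link D (x 1)) with hK
  have hxK : ∀ i : Fin 9, y332 1 i = false → x i ∈ K := fun i hi =>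
    mem_closure_link U'.self_mem (H.mem i) (H.comm 1 i hi)
  set q3 := x 4 * x 3 * x 7 * x 3 * x 4 with hq3
  set q4 := x 3 * x 2 * q3 * x 2 * x 3 with hq4
  set q5 := x 2 * x 1 * q4 * x 1 * x 2 with hq5
  have c3 : Commute (x 3) q3 :=
    commute_nested (H'.braid' hset' 4 3 (by decide)) (H.comm 4 7 (by decide))
  have c2 : Commute (x 2) q4 := commute_nested (H'.braid' hset' 3 2 (by decide)) c3
  have c1 : Commute (x 1) q5 := commute_nested (H'.braid' hset' 2 1 (by decide)) c2
  have cc : ∀ (i : Fin 9) {y : G}, y ∈ D → x i * y * x i ∈ D := fun i y hy => by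
    have := R.conj (x i) y hy
    rwa [inv_eq hset' (H'.mem i)] at this
  have hqD : q5 ∈ D := by
    have h := cc 2 (cc 1 (cc 3 (cc 2 (cc 4 (cc 3 (H.mem 7))))))
    simpa only [hq5, hq4, hq3, mul_assoc] using h
  have hsub : ∀ l ∈ E6Cert.subWords, (∀ n ∈ l, n < 16) ∧ (l.map g).prod ∈ K := by
    intro l hl
    refine ⟨(show ∀ l ∈ E6Cert.subWords, ∀ n ∈ l, n < 16 by decide +kernel) l hl, ?_⟩
    simp only [E6Cert.subWords, List.mem_cons, List.not_mem_nil, or_false] at hl
    rcases hl with rfl | rfl | rfl | rfl | rfl | rfl | rfl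
    · simpa [e0] using U'.self_mem
    · simpa [e2] using hxK 3 (by decide)
    · simpa [e3] using hxK 4 (by decide)
    · simpa [e4] using hxK 5 (by decide)
    · simpa [e5] using hxK 7 (by decide)
    · simpa [e6] using hxK 8 (by decide)
    · have hb := H'.braid' hset' 7 3 (by decide)
      have : q5 ∈ K := mem_closure_link U'.self_mem hqD c1
      simp only [List.map_cons, List.map_nil, List.prod_cons, List.prod_nil, mul_one, e0, e1, e2,
        e3, e5]
      convert this using 1
      simp only [hq5, hq4, hq3, mul_assoc]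
      rw [← mul_assoc (x 7) (x 3), ← mul_assoc (x 7 * x 3) (x 7), hb]
      simp only [mul_assoc]
  have hmove : ∀ u ∈ moveE6, (u.map g).prod * z * (u.map g).prod⁻¹ ∈ K := by
    intro u hu
    obtain ⟨hlt, hscan⟩ := e6_scan u hu
    simp only [List.all_eq_true, decide_eq_true_eq] at hlt
    rw [hzdef, ← prod_conj_word g hsq]
    refine prod_mem_of_scan (ip := E6Cert.ip) (by simp [hg, letter7])
      (hinv_of_letters e6_ip fun n _ => hsq n) K E6Cert.cert E6Cert.cert_ok (fun l hl => ?_) hsub hlt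
      hscan
    refine ⟨(show ∀ l ∈ E6Cert.rels, ∀ n ∈ l, n < 16 by decide +kernel) l hl, ?_⟩
    rcases e6_rels l hl with rfl | h
    · rw [prod_flatten_replicate, List.map_cons, List.prod_cons, hXe, e0]
      exact cube_eq_one (near_commute R (H.mem 3))
        (show x 1 ∈ {y | y ∈ D ∧ Commute (x 3) y} from ⟨H.mem 1, H.comm 3 1 (by decide)⟩)
        ⟨hXl.1, (hXcom 2 (by decide)).symm⟩ hbX
    · exact letter7_cox hset' H' nodeE6 l h
  have hzK : z ∈ K := by
    have := hmove [] (by decide)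
    simpa using this
  have hcen : ∀ y ∈ K, Commute y (x 1) := fun y hy => mem_centralizer_singleton_iff.1
    (CfsgLib.FischerUnique.closure_link_le_centralizer hy)
  have hzc : ∀ u ∈ moveE6, Commute z ((u.map g).prod⁻¹ * x 1 * (u.map g).prod) := fun u hu =>
    conj_commute (hcen _ (hmove u hu))
  have u1 := conj_step (a := x 1) (hsq 0) (hsq 1) (t := g 1) (U := 1)
    (by rw [e0, e1]; exact H'.braid' hset' 2 1 (by decide)) (by simp [e0])
  have u2 := conj_step (hsq 1) (hsq 2) (by rw [e1, e2]; exact H'.braid' hset' 3 2 (by decide)) u1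
  have u3 := conj_step (hsq 2) (hsq 3) (by rw [e2, e3]; exact H'.braid' hset' 4 3 (by decide)) u2
  have u4 := conj_step (hsq 3) (hsq 4) (by rw [e3, e4]; exact H'.braid' hset' 5 4 (by decide)) u3
  have u5 := conj_step (hsq 2) (hsq 5) (by rw [e2, e5]; exact H'.braid' hset' 7 3 (by decide)) u2
  have u6 := conj_step (hsq 5) (hsq 6) (by rw [e5, e6]; exact H'.braid' hset' 8 7 (by decide)) u5
  have z2 : Commute z (x 2) := by
    have := hzc [1, 0] (by decide)
    rwa [show ([1, 0].map g).prod = 1 * g 1 * g 0 by simp, u1, e1] at this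
  have z3 : Commute z (x 3) := by
    have := hzc [1, 0, 2, 1] (by decide)
    rwa [show ([1, 0, 2, 1].map g).prod = 1 * g 1 * g 0 * g 2 * g 1 by simp [mul_assoc], u2,
      e2] at this
  have z4 : Commute z (x 4) := by
    have := hzc [1, 0, 2, 1, 3, 2] (by decide)
    rwa [show ([1, 0, 2, 1, 3, 2].map g).prod = 1 * g 1 * g 0 * g 2 * g 1 * g 3 * g 2 by
      simp [mul_assoc], u3, e3] at this
  have z5 : Commute z (x 5) := by
    have := hzc [1, 0, 2, 1, 3, 2, 4, 3] (by decide)
    rwa [show ([1, 0, 2, 1, 3, 2, 4, 3].map g).prod =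
      1 * g 1 * g 0 * g 2 * g 1 * g 3 * g 2 * g 4 * g 3 by simp [mul_assoc], u4, e4] at this
  have z7 : Commute z (x 7) := by
    have := hzc [1, 0, 2, 1, 5, 2] (by decide)
    rwa [show ([1, 0, 2, 1, 5, 2].map g).prod = 1 * g 1 * g 0 * g 2 * g 1 * g 5 * g 2 by
      simp [mul_assoc], u5, e5] at this
  have z8 : Commute z (x 8) := by
    have := hzc [1, 0, 2, 1, 5, 2, 6, 5] (by decide)
    rwa [show ([1, 0, 2, 1, 5, 2, 6, 5].map g).prod =
      1 * g 1 * g 0 * g 2 * g 1 * g 5 * g 2 * g 6 * g 5 by simp [mul_assoc], u6, e6] at this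
  -- the five points in the link of `b`
  obtain ⟨v', W'⟩ := H.exists_frame (Or.inr rfl) U'
  have hlam : ∀ f : Unit' (stdHerm hF 6), (∀ {w s}, P' w s → P' (f.1 w) (z * s * z⁻¹)) →
      ∃ lam : F, lam ≠ 0 ∧ ∀ i, i ≠ 5 → f.1 (v' i) = lam • v' i := by
    intro f hf
    obtain ⟨l0, n0, h0⟩ := U'.eigen hf (W'.pts 0) z8
    obtain ⟨l1, n1, h1⟩ := U'.eigen hf (W'.pts 1) z7
    obtain ⟨l2, n2, h2⟩ := U'.eigen hf (W'.pts 2) z3
    obtain ⟨l3, n3, h3⟩ := U'.eigen hf (W'.pts 3) z4
    obtain ⟨l4, n4, h4⟩ := U'.eigen hf (W'.pts 4) z5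
    have q01 : l0 = l1 := eigen_eq n1 h0 h1 (by rw [W'.gram]; simp)
    have q12 : l1 = l2 := eigen_eq n2 h1 h2 (by rw [W'.gram]; simp)
    have q32 : l3 = l2 := eigen_eq n2 h3 h2 (by rw [W'.gram]; simp)
    have q43 : l4 = l3 := eigen_eq n3 h4 h3 (by rw [W'.gram]; simp)
    refine ⟨l2, n2, fun i hi => ?_⟩
    fin_cases i
    · rw [← q12, ← q01]; exact h0
    · rw [← q12]; exact h1
    · exact h2
    · rw [← q32]; exact h3
    · rw [← q32, ← q43]; exact h4
    · exact absurd rfl hi
  rcases W'.fix_five (uni_restrict R U') (by rw [link_restrict]; exact hzK) 5 ![1, 0, 1, 0, 1, 0]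
      (by decide +kernel) (by decide +kernel) rfl (near_commute R (H.mem 1)) hlam with h | h | ⟨t, ht, h | h⟩
  · exact h
  · exact absurd (h ▸ z2) (H.nc 1 2 (by decide))
  · exfalso
    have htl : t ∈ link D (x 1) := U'.mem ht
    have htc : t ≠ x 2 := fun he => H.nc 1 2 (by decide) (he ▸ htl.2.2)
    have htS : t ∈ link D (x 1) ∩ link D (x 2) := ⟨htl, htl.1, htc, (h ▸ z2).symm⟩
    have hcom : ∀ i, Commute t (x (pathNode i)) ↔
        pathBil ![1, 0, 1, 0, 1, 0] (Pi.single i 1) = 0 := fun i => W'.comm_iff U' ht (W'.coord i)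
    have hmem : ∀ i : Fin 9, (1 : Fin 9) ≠ i → (2 : Fin 9) ≠ i → y332 1 i = false →
        y332 2 i = false → x i ∈ link D (x 1) ∩ link D (x 2) := fun i a b c d =>
      ⟨H.mem_link a c, H.mem_link b d⟩
    let y : Fin 6 → G := ![x 4, x 5, x 6, t, x 7, x 8]
    refine (R.sect U' (H.mem 2) (H.nc 1 2 (by decide))
      (hmem 4 (by decide) (by decide) (by decide) (by decide))).no_split U' Set.inter_subset_left
      (y := y) (fun i => ?_) fun i j hij => ?_
    · fin_cases i
      exacts [hmem 4 (by decide) (by decide) (by decide) (by decide),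
        hmem 5 (by decide) (by decide) (by decide) (by decide),
        hmem 6 (by decide) (by decide) (by decide) (by decide), htS,
        hmem 7 (by decide) (by decide) (by decide) (by decide),
        hmem 8 (by decide) (by decide) (by decide) (by decide)]
    · have t4 : Commute t (x 4) := (hcom 3).2 (by decide +kernel)
      have t5 : Commute t (x 5) := (hcom 4).2 (by decide +kernel)
      have t7 : Commute t (x 7) := (hcom 1).2 (by decide +kernel)
      have t8 : Commute t (x 8) := (hcom 0).2 (by decide +kernel)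
      have t6 : ¬ Commute t (x 6) := fun hh => absurd ((hcom 5).1 hh) (by decide +kernel)
      fin_cases i <;> fin_cases j <;> first
        | exact absurd rfl hij
        | exact iff_of_true t4 (by decide)
        | exact iff_of_true t4.symm (by decide)
        | exact iff_of_true t5 (by decide)
        | exact iff_of_true t5.symm (by decide)
        | exact iff_of_true t7 (by decide)
        | exact iff_of_true t7.symm (by decide)
        | exact iff_of_true t8 (by decide)
        | exact iff_of_true t8.symm (by decide)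
        | exact iff_of_false t6 (by decide)
        | exact iff_of_false (fun hh => t6 hh.symm) (by decide)
        | exact iff_of_true (H.comm _ _ (by decide)) (by decide)
        | exact iff_of_false (H.nc _ _ (by decide)) (by decide)
  · have hl : Commute t (x (pathNode 3)) := (W'.comm_iff U' ht (W'.coord 3)).2 (by decide +kernel)
    exact (not_commute_mul_self (near_commute R (H.mem 4))
      (show x 1 ∈ {y | y ∈ D ∧ Commute (x 4) y} from ⟨H.mem 1, H.comm 4 1 (by decide)⟩)
      ⟨H.mem 2, H.comm 4 2 (by decide)⟩ ⟨⟨(U'.mem ht).1, hl.symm⟩, (U'.mem ht).2⟩ (H.nc 1 2 (by decide))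
      (h ▸ z2)).elim

/-- The presented group maps into the given one, faithfully, generators going to members. -/
theorem exists_hom (R : Recog hF D) {a : G} (ha : a ∈ D) :
    ∃ φ : Cfsg.Spor.Fi22 →* G, φ CfsgLib.CosetEnum.Fi22U6.z = a ∧ Function.Injective φ ∧
      ∀ i < 9, φ (CfsgLib.CosetEnum.Fi22.g i) ∈ D := by
  obtain ⟨P, U⟩ := R.uni a ha
  obtain ⟨x, rfl, H⟩ := diag_exists R U
  have hset' := diag_set R H
  have H' := diag_range H
  obtain ⟨P₁, U₁⟩ := R.uni _ (H.mem 1)
  obtain ⟨P₆, U₆⟩ := R.uni _ (H.mem 6)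
  have r0 := relation_e6 R H U U₁
  have r1 := relation_e7 R H U
  have h9 : (x 6 * x 5 * x 4 * x 3 * x 2 * x 1 * x 7) ^ 9 = 1 :=
    relation_e7 (x := fun i => x (mirror i)) R H.mirrored U₆
  have h9' : (x 7 * (x 1 * x 2 * x 3 * x 4 * x 5 * x 6)) ^ 9 = 1 := by
    rw [← inv_eq_one, ← inv_pow]
    convert h9 using 2
    simp only [mul_inv_rev, inv_eq hset' (H'.mem _), mul_assoc]
  have r2 := pow_eq_one_rotate (mul_self hset' (H'.mem 7)) h9'
  set f : Cfsg.Spor.Fi22.Gen → G := fun p => x (nodeOf p) with hf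
  have hrel : ∀ r ∈ Cfsg.Spor.coxRelators Cfsg.Spor.Fi22.edges ∪ {r | r ∈ Cfsg.Spor.Fi22.extra},
      FreeGroup.lift f r = 1 := by
    rintro r (⟨p, -, q, -, rfl⟩ | hr)
    · rw [map_pow, map_mul, FreeGroup.lift_apply_of, FreeGroup.lift_apply_of, coxLabel_nodeOf]
      show (x (nodeOf p) * x (nodeOf q)) ^ _ = 1
      by_cases h1 : nodeOf p = nodeOf q
      · rw [if_pos h1, h1, pow_one, mul_self hset' (H'.mem _)]
      rw [if_neg h1]
      rcases h2 : y332 (nodeOf p) (nodeOf q) with _ | _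
      · rw [if_neg (by decide), pow_two]
        have hc := (H.comm _ _ h2).eq
        calc x (nodeOf p) * x (nodeOf q) * (x (nodeOf p) * x (nodeOf q))
            = x (nodeOf p) * (x (nodeOf q) * x (nodeOf p)) * x (nodeOf q) := by
              simp only [mul_assoc]
          _ = x (nodeOf p) * x (nodeOf p) * (x (nodeOf q) * x (nodeOf q)) := by
              rw [← hc]; simp only [mul_assoc]
          _ = 1 := by rw [mul_self hset' (H'.mem _), mul_self hset' (H'.mem _), one_mul]
      · rw [if_pos rfl]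
        exact CfsgLib.ThreeTrans.cube_eq_one hset' (H'.mem _) (H'.mem _) (H.nc _ _ h2)
    · simp only [Cfsg.Spor.Fi22.extra, Set.mem_setOf_eq, List.mem_cons, List.not_mem_nil,
        or_false] at hr
      rcases hr with rfl | rfl | rfl
      all_goals rw [map_pow]; simp only [map_mul, FreeGroup.lift_apply_of]
      exacts [r0, r1, r2]
  set φ : Cfsg.Spor.Fi22 →* G := PresentedGroup.toGroup hrel with hφ
  have hgen : ∀ i < 9, φ (CfsgLib.CosetEnum.Fi22.g i) ∈ D := by
    intro i hi
    interval_cases i <;>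
    · show PresentedGroup.toGroup hrel (PresentedGroup.of _) ∈ D
      rw [PresentedGroup.toGroup.of]
      exact H.mem _
  haveI := CfsgLib.CosetEnum.Fi22.Simple.isSimple
  have hinj : Function.Injective φ := by
    rw [← MonoidHom.ker_eq_bot_iff]
    refine (IsSimpleGroup.eq_bot_or_eq_top_of_normal _ inferInstance).resolve_right fun htop => ?_
    have hmem := hgen 0 (by norm_num)
    rw [show φ (CfsgLib.CosetEnum.Fi22.g 0) = 1 from
      MonoidHom.mem_ker.1 (htop ▸ mem_top _)] at hmem
    exact R.ne_one hmem rfl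
  refine ⟨φ, ?_, hinj, hgen⟩
  show PresentedGroup.toGroup hrel (PresentedGroup.of _) = x 0
  rw [PresentedGroup.toGroup.of]
  rfl

end CfsgLib.FischerRecog22
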