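import Cfsg.Agent.Lib.FischerRecog22.Base

set_option autoImplicit false

/-!
The common links of non-commuting members meet lines through their members in one further member.
-/

namespace CfsgLib.FischerRecog22

open CfsgLib.Classical.Herm HermSpace
open CfsgLib.ThreeTrans (link commute_conj_iff' conj_self_of_commute)
open CfsgLib.FischerFi22 (Uni)

universe u

variable {G : Type u} [Group G] {F : Type} [Field F] [Fintype F] {hF : Fintype.card F = 2 ^ 2}
  {D : Set G}

local notation "𝓗" => stdHerm hF 6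
local notation "𝕍" => (Fin 6 → F)

/-- Members on the line of `u`, `t` in the space of `x` lie on the line of `v`, `w` in that of `a`. -/
theorem line_trans {a x p q : G} {P Q : 𝕍 → G → Prop} (U : Uni hF D a P) (V : Uni hF D x Q)
    {v w u t z : 𝕍} {α β : F} (hv : P v x) (hw : P w p) (hz : P z q) (hind : ∀ c : F, w ≠ c • v)
    (hu : Q u a) (ht : Q t p) (hq : Q (α • u + β • t) q) :
    ∃ α' β' : F, z = α' • v + β' • w := by
  refine CfsgLib.FischerType.U6.exists_comb_line hF (U.ne hw) (fun c hc => ?_) fun k hk0 hk hkv hkw => ?_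
  · by_cases hc0 : c = 0
    · exact U.ne hv (by rw [← hc, hc0, zero_smul])
    · exact hind c⁻¹ (by rw [← hc, smul_smul, inv_mul_cancel₀ hc0, one_smul])
  obtain ⟨r, hr⟩ := U.exists_pt k hk hk0
  refine (U.comm hz hr).1 ?_
  have hrx : Commute r x := (U.comm hr hv).2 hkv
  have hrp : Commute r p := (U.comm hr hw).2 hkw
  by_cases hrxe : r = x
  · rw [hrxe]
    exact (V.mem hq).2.2.symm
  obtain ⟨k', hk'⟩ := V.surj r ⟨(U.mem hr).1, hrxe, hrx.symm⟩
  have h1 : (𝓗).h k' u = 0 := (V.comm hk' hu).1 (U.mem hr).2.2.symm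
  have h2 : (𝓗).h k' t = 0 := (V.comm hk' ht).1 hrp
  refine ((V.comm hk' hq).2 ?_).symm
  rw [(𝓗).add_right, (𝓗).smul_right, (𝓗).smul_right, h1, h2, mul_zero, mul_zero, add_zero]

theorem sect_of_uni (hconj : ∀ g : G, ∀ x ∈ D, g * x * g⁻¹ ∈ D)
    (huni : ∀ x ∈ D, ∃ P, Uni hF D x P) {a b x : G} {P : 𝕍 → G → Prop} (U : Uni hF D a P)
    (hb : b ∈ D) (hab : ¬ Commute a b) (_hx : x ∈ link D a ∩ link D b) :
    Sect hF P (link D a ∩ link D b) := by
  refine ⟨?_, ?_, ?_⟩
  · rintro x ⟨⟨hxD, hxa, hax⟩, -, hxb, hbx⟩ y ⟨⟨-, -, hay⟩, -, -, hby⟩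
    have hne : ∀ {e : G}, Commute e y → x ≠ e → y * x * y⁻¹ ≠ e := by
      intro e hey hxe h
      refine hxe ?_
      have : x = y⁻¹ * e * y := by rw [← h]; group
      rw [this, mul_assoc, hey.eq, inv_mul_cancel_left]
    have hcom : ∀ {e : G}, Commute e y → Commute e x → Commute e (y * x * y⁻¹) := by
      intro e hey hex
      exact (hey.mul_right hex).mul_right hey.inv_right
    exact ⟨⟨hconj y x hxD, hne hay hxa, hcom hay hax⟩, hconj y x hxD, hne hby hxb, hcom hby hbx⟩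
  · intro x v w hx hv hww hvw hind
    have hw0 : w ≠ 0 := fun h => hind 0 (by rw [h, zero_smul])
    obtain ⟨p, hp⟩ := U.exists_pt w hww hw0
    have hpx : p ≠ x := fun e => by
      subst e
      obtain ⟨c, -, hc⟩ := U.uniq hv hp
      exact hind c hc
    by_cases hpb : Commute b p
    · refine ⟨0, p, ⟨U.mem hp, (U.mem hp).1, fun e => ?_, hpb⟩, ?_⟩
      · exact hab (e ▸ (U.mem hp).2.2)
      · rwa [zero_smul, add_zero]
    obtain ⟨Q, V⟩ := huni x hx.1.1
    have hxp : Commute x p := (U.comm hv hp).2 hvw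
    obtain ⟨u, hu⟩ := V.surj a ⟨U.base, fun e => hx.1.2.1 e.symm, hx.1.2.2.symm⟩
    obtain ⟨t, ht⟩ := V.surj p ⟨(U.mem hp).1, hpx, hxp⟩
    obtain ⟨s, hs⟩ := V.surj b ⟨hb, fun e => hx.2.2.1 e.symm, hx.2.2.2.symm⟩
    have hut : (𝓗).h u t = 0 := (V.comm hu ht).1 (U.mem hp).2.2
    have hsu : (𝓗).h s u ≠ 0 := fun h0 => hab ((V.comm hs hu).2 h0).symm
    have hst : (𝓗).h s t ≠ 0 := fun h0 => hpb ((V.comm hs ht).2 h0)
    set d := (𝓗).conj (-((𝓗).h s u / (𝓗).h s t)) with hd
    have hd0 : d ≠ 0 := (𝓗).conj_ne_zero (neg_ne_zero.2 (div_ne_zero hsu hst))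
    have hiso : (𝓗).h (u + d • t) (u + d • t) = 0 := by
      rw [(𝓗).add_left, (𝓗).add_right, (𝓗).add_right, (𝓗).smul_left, (𝓗).smul_left,
        (𝓗).smul_right, (𝓗).smul_right, V.iso hu, V.iso ht, hut, (𝓗).h_comm_zero hut]
      ring
    have hindt : ∀ c : F, u ≠ c • t := fun c hc => by
      refine (U.mem hp).2.1 ?_
      have hc0 : c ≠ 0 := fun h0 => V.ne hu (by rw [hc, h0, zero_smul])
      exact V.inj (V.smul ht hc0) (hc ▸ hu)
    have hne0 : u + d • t ≠ 0 := fun h0 => hindt (-d) (by rw [neg_smul]; exact eq_neg_of_add_eq_zero_left h0)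
    obtain ⟨q, hq⟩ := V.exists_pt _ hiso hne0
    have hqb : Commute b q := (V.comm hs hq).2 (by
      rw [(𝓗).add_right, (𝓗).smul_right, hd, (𝓗).conj_conj]
      field_simp
      ring)
    have hqa : Commute a q := (V.comm hu hq).2 (by
      rw [(𝓗).add_right, (𝓗).smul_right, V.iso hu, hut, mul_zero, add_zero])
    have hqne : q ≠ a := fun e => by
      subst e
      obtain ⟨c, -, hc⟩ := V.uniq hu hq
      refine hindt ((c - 1)⁻¹ * d) ?_
      by_cases hc1 : c - 1 = 0
      · exfalso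
        rw [sub_eq_zero] at hc1
        rw [hc1, one_smul, add_eq_left, smul_eq_zero] at hc
        exact hc.elim hd0 (V.ne ht)
      · have : d • t = (c - 1) • u := by
          rw [sub_smul, one_smul, ← hc]; abel
        rw [mul_smul, this, smul_smul, inv_mul_cancel₀ hc1, one_smul]
    have hqS : q ∈ link D a ∩ link D b :=
      ⟨⟨(V.mem hq).1, hqne, hqa⟩, (V.mem hq).1, fun e => hab (e ▸ hqa), hqb⟩
    obtain ⟨z, hz⟩ := U.surj q hqS.1
    obtain ⟨α, β, hzab⟩ := line_trans U V hv hp hz hind hu ht (α := 1) (β := d)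
      (by rw [one_smul]; exact hq)
    have hβ : β ≠ 0 := fun h0 => by
      rw [h0, zero_smul, add_zero] at hzab
      have hα : α ≠ 0 := fun h1 => U.ne hz (by rw [hzab, h1, zero_smul])
      exact (V.mem hq).2.1 (U.inj (hzab ▸ hz) (U.smul hv hα))
    refine ⟨β⁻¹ * α, q, hqS, ?_⟩
    have := U.smul hz (inv_ne_zero hβ)
    rwa [hzab, smul_add, smul_smul, smul_smul, inv_mul_cancel₀ hβ, one_smul, add_comm] at this
  · intro x y z u v c hx hy hz hu hv huv hxy hc hzc
    have hind : ∀ e : F, v ≠ e • u := fun e he => by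
      have he0 : e ≠ 0 := fun h0 => U.ne hv (by rw [he, h0, zero_smul])
      exact hxy (U.inj (U.smul hu he0) (he ▸ hv))
    have hzx : z ≠ x := fun e => by
      subst e
      obtain ⟨d, -, hd⟩ := U.uniq hu hzc
      refine hind (c⁻¹ * (d - 1)) ?_
      rw [mul_smul, sub_smul, one_smul, ← hd, add_sub_cancel_left, smul_smul, inv_mul_cancel₀ hc,
        one_smul]
    have hzy : z ≠ y := fun e => by
      subst e
      obtain ⟨d, -, hd⟩ := U.uniq hv hzc
      have h1 : u = (d - c) • v := by rw [sub_smul, ← hd, add_sub_cancel_right]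
      by_cases h0 : d - c = 0
      · exact U.ne hu (by rw [h1, h0, zero_smul])
      · exact hind (d - c)⁻¹ (by rw [h1, smul_smul, inv_mul_cancel₀ h0, one_smul])
    obtain ⟨Q, V⟩ := huni x hx.1.1
    have hcxy : Commute x y := (U.comm hu hv).2 huv
    have hcxz : Commute x z := (U.comm hu hzc).2 (by
      rw [(𝓗).add_right, (𝓗).smul_right, U.iso hu, huv, mul_zero, add_zero])
    obtain ⟨a', ha'⟩ := V.surj a ⟨U.base, fun e => hx.1.2.1 e.symm, hx.1.2.2.symm⟩
    obtain ⟨y', hy'⟩ := V.surj y ⟨hy.1.1, fun e => hxy e.symm, hcxy⟩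
    obtain ⟨z', hz'⟩ := V.surj z ⟨hz.1.1, hzx, hcxz⟩
    obtain ⟨s, hs⟩ := V.surj b ⟨hb, fun e => hx.2.2.1 e.symm, hx.2.2.2.symm⟩
    have hinda : ∀ e : F, y' ≠ e • a' := fun e he => by
      have he0 : e ≠ 0 := fun h0 => V.ne hy' (by rw [he, h0, zero_smul])
      exact hy.1.2.1 (V.inj (he ▸ hy') (V.smul ha' he0))
    obtain ⟨α, β, hzab⟩ := line_trans V U ha' hy' hz' hinda hu hv (α := 1) (β := c)
      (by rw [one_smul]; exact hzc)
    have hα : α ≠ 0 := fun h0 => by
      rw [h0, zero_smul, zero_add] at hzab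
      have hβ : β ≠ 0 := fun h1 => V.ne hz' (by rw [hzab, h1, zero_smul])
      exact hzy (V.inj (hzab ▸ hz') (V.smul hy' hβ))
    have hsy : (𝓗).h s y' = 0 := (V.comm hs hy').1 hy.2.2.2
    have hsz : (𝓗).h s z' = 0 := (V.comm hs hz').1 hz.2.2.2
    rw [hzab, (𝓗).add_right, (𝓗).smul_right, (𝓗).smul_right, hsy, mul_zero, add_zero] at hsz
    refine hab ((V.comm hs ha').2 ?_).symm
    exact (mul_eq_zero.1 hsz).resolve_left ((𝓗).conj_ne_zero hα)

end CfsgLib.FischerRecog22
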