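import Cfsg.Prelude.Def_FischerSpaces
import Cfsg.Agent.Lib.ThreeTransp.OrthReflection
import Cfsg.Agent.Lib.FischerTetrad.OrthoData

/-!
The reflections of norm one of the six-dimensional space of minus type over three elements, acting on the
126 points of norm one: the kernel is the centre, the image is generated by the 126 induced permutations.
-/

set_option autoImplicit false
set_option maxRecDepth 100000

namespace CfsgLib.FischerRecog22.Refl6

open CfsgLib.OrthSpinor CfsgLib.OrthReflThree
open CfsgLib.FischerTetrad.Model (orthoCodes)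
open QuadraticMap (polar)

/-- The space. -/
abbrev V : Type := Fin 6 → ZMod 3

/-- The form. -/
def Q6 : QuadraticForm (ZMod 3) V :=
  QuadraticMap.proj 0 2 + QuadraticMap.proj 1 3 + QuadraticMap.proj 4 4 + QuadraticMap.proj 5 5

/-- Its value. -/
def qv (x : V) : ZMod 3 := x 0 * x 2 + x 1 * x 3 + x 4 * x 4 + x 5 * x 5

/-- Its polar. -/
def bv (x y : V) : ZMod 3 :=
  x 0 * y 2 + y 0 * x 2 + (x 1 * y 3 + y 1 * x 3) + 2 * (x 4 * y 4) + 2 * (x 5 * y 5)

theorem Q6_apply (x : V) : Q6 x = qv x := by
  simp [Q6, qv, QuadraticMap.proj_apply]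

theorem polar_Q6 (x y : V) : polar (⇑Q6) x y = bv x y := by
  simp only [polar, Q6_apply, qv, bv, Pi.add_apply]
  ring

theorem nondegenerate : (QuadraticMap.polarBilin Q6).Nondegenerate := by
  have h2 : ∀ a : ZMod 3, 2 * a = 0 → a = 0 := by decide
  have hz : ∀ u : V, (∀ y, bv u y = 0) → u = 0 := by
    intro u h
    have k0 := h (Pi.single 2 1); have k1 := h (Pi.single 3 1); have k2 := h (Pi.single 0 1)
    have k3 := h (Pi.single 1 1); have k4 := h (Pi.single 4 1); have k5 := h (Pi.single 5 1)
    simp [bv] at k0 k1 k2 k3 k4 k5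
    funext i
    fin_cases i
    exacts [k0, k1, k2, k3, k4.resolve_left (by decide), k5.resolve_left (by decide)]
  refine ⟨fun x hx => hz x fun y => ?_, fun y hy => hz y fun x => ?_⟩
  · rw [← polar_Q6]; exact hx y
  · rw [← polar_Q6, QuadraticMap.polar_comm]; exact hy x

theorem gram_det : Cfsg.polarGramDet (⇑Q6) = 1 := by
  have h : ∀ i j : Fin 6, polar (⇑Q6) (Pi.single i 1) (Pi.single j 1) = bv (Pi.single i 1) (Pi.single j 1) :=
    fun i j => polar_Q6 _ _
  simp only [Cfsg.polarGramDet, h]
  decide +kernel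

/-- A digit in base three. -/
def dig (c i : ℕ) : ZMod 3 := (⟨c / 3 ^ i % 3, Nat.mod_lt _ (by decide)⟩ : Fin 3)

/-- The vector with a code. -/
def mkv (c : ℕ) : V := fun t => dig c t.val

/-- The code of a vector. -/
def code (v : V) : ℕ :=
  (v 0).val + 3 * (v 1).val + 9 * (v 2).val + 27 * (v 3).val + 81 * (v 4).val + 243 * (v 5).val

/-- The chosen vector of a point. -/
def vv (i : Fin 126) : V := mkv (orthoCodes.getD i.val 0)

/-- The point of a vector. -/
def pt (v : V) : Fin 126 :=
  ⟨orthoCodes.findIdx (fun d => Nat.beq d (code v) || Nat.beq d (code (-v))) % 126,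
    Nat.mod_lt _ (by decide)⟩

/-- The reflection in a vector of value one. -/
def rv (v x : V) : V := fun t => x t - bv v x * v t

theorem qv_vv : ∀ i, qv (vv i) = 1 := by decide +kernel

theorem pt_vv : ∀ i, pt (vv i) = i ∧ pt (-vv i) = i := by decide +kernel

theorem cover : ∀ c : Fin 729, qv (mkv c) = 1 → vv (pt (mkv c)) = mkv c ∨ vv (pt (mkv c)) = -mkv c := by
  decide +kernel

theorem code_digits : ∀ a b c d e f : ZMod 3,
    code ![a, b, c, d, e, f] < 729 ∧ mkv (code ![a, b, c, d, e, f]) = ![a, b, c, d, e, f] := by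
  decide +kernel

theorem code_spec (v : V) : code v < 729 ∧ mkv (code v) = v := by
  have h : (![v 0, v 1, v 2, v 3, v 4, v 5] : V) = v := by funext i; fin_cases i <;> rfl
  have := code_digits (v 0) (v 1) (v 2) (v 3) (v 4) (v 5)
  rwa [h] at this

theorem vv_pt {v : V} (h : Q6 v = 1) : vv (pt v) = v ∨ vv (pt v) = -v := by
  obtain ⟨hc, he⟩ := code_spec v
  have := cover ⟨code v, hc⟩
  simp only [he] at this
  exact this (Q6_apply v ▸ h)

theorem Q6_vv (i : Fin 126) : Q6 (vv i) = 1 := by rw [Q6_apply, qv_vv]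

theorem Q6_vv_ne (i : Fin 126) : Q6 (vv i) ≠ 0 := by rw [Q6_vv]; exact one_ne_zero

theorem pt_neg {v : V} (h : Q6 v = 1) : pt (-v) = pt v := by
  rcases vv_pt h with e | e
  · conv_lhs => rw [← e]
    rw [(pt_vv _).2]
  · conv_lhs => rw [← e]
    rw [(pt_vv _).1]

/-- The isometries. -/
abbrev Iso6 : Type := ↥(Cfsg.isometryGroup (ZMod 3) ⇑Q6)

theorem image_mul (g h : Iso6) (i : Fin 126) :
    pt (act Q6 (g * h) (vv i)) = pt (act Q6 g (vv (pt (act Q6 h (vv i))))) := by
  have hq : Q6 (act Q6 h (vv i)) = 1 := by rw [Q_act, Q6_vv]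
  rcases vv_pt hq with e | e
  · rw [e, act_mul]
  · rw [e, act_neg, pt_neg (by rw [Q_act, hq]), act_mul]

/-- The action on the points. -/
noncomputable def psi : Iso6 →* Equiv.Perm (Fin 126) :=
  MonoidHom.mk' (fun g =>
    { toFun := fun i => pt (act Q6 g (vv i))
      invFun := fun i => pt (act Q6 g⁻¹ (vv i))
      left_inv := fun i => by
        show pt (act Q6 g⁻¹ (vv (pt (act Q6 g (vv i))))) = i
        rw [← image_mul, inv_mul_cancel, act_one, (pt_vv i).1]
      right_inv := fun i => by
        show pt (act Q6 g (vv (pt (act Q6 g⁻¹ (vv i))))) = i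
        rw [← image_mul, mul_inv_cancel, act_one, (pt_vv i).1] })
    fun g h => Equiv.ext fun i => image_mul g h i

theorem psi_apply (g : Iso6) (i : Fin 126) : psi g i = pt (act Q6 g (vv i)) := rfl

/-- The reflection at a point. -/
noncomputable def refl (i : Fin 126) : Iso6 := reflection (Q6_vv_ne i)

/-- The permutation induced by the reflection at a point. -/
noncomputable def rp (i : Fin 126) : Equiv.Perm (Fin 126) := psi (refl i)

theorem rp_apply (i j : Fin 126) : rp i j = pt (rv (vv i) (vv j)) := by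
  have h : act Q6 (refl i) (vv j) = rv (vv i) (vv j) := by
    funext t
    rw [refl, act_reflection, Q6_vv, inv_one, one_mul, polar_Q6]
    rfl
  rw [rp, psi_apply, h]

theorem reflection_eq_refl {v : V} (h : Q6 v = 1) :
    reflection (Q := Q6) (v := v) (by rw [h]; exact one_ne_zero) = refl (pt v) := by
  rcases vv_pt h with e | e
  · exact (reflection_congr e.symm _)
  · rw [refl, reflection_congr (e) (Q6_vv_ne (pt v)), reflection_neg]

theorem conj_refl (g : Iso6) (i : Fin 126) : g * refl i * g⁻¹ = refl (psi g i) := by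
  rw [refl, conj_reflection, psi_apply]
  exact reflection_eq_refl (by rw [Q_act, Q6_vv])

theorem rp_conj (g : Iso6) (i : Fin 126) : rp (psi g i) = psi g * rp i * (psi g)⁻¹ := by
  rw [rp, ← conj_refl, map_mul, map_mul, map_inv]
  rfl

theorem refl_injective : Function.Injective refl := by
  intro i j h
  have h1 := act_reflection_self (Q6_vv_ne i)
  rw [show reflection (Q6_vv_ne i) = refl i from rfl, h, refl, act_reflection, Q6_vv, inv_one, one_mul] at h1
  have hij : ∀ a b : Fin 126, vv a - bv (vv b) (vv a) • vv b = -vv a → a = b := by decide +kernel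
  rw [polar_Q6] at h1
  exact hij i j h1

/-- The group of the reflections. -/
abbrev RS : Subgroup Iso6 := Cfsg.reflectionSubgroup (⇑Q6) 1

theorem refl_mem (i : Fin 126) : refl i ∈ RS :=
  Subgroup.subset_closure ((mem_norm_iff one_ne_zero).2 ⟨vv i, Q6_vv i, rfl⟩)

/-- The action of the group of the reflections. -/
noncomputable def psi0 : ↥RS →* Equiv.Perm (Fin 126) := psi.comp RS.subtype

theorem range_psi0 : psi0.range = Subgroup.closure (Set.range rp) := by
  rw [psi0, MonoidHom.range_comp, Subgroup.range_subtype, RS, Cfsg.reflectionSubgroup,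
    MonoidHom.map_closure]
  refine congrArg _ (Set.ext fun x => ⟨?_, ?_⟩)
  · rintro ⟨g, hg, rfl⟩
    obtain ⟨v, hv, rfl⟩ := (mem_norm_iff one_ne_zero).1 hg
    exact ⟨pt v, by rw [rp, ← reflection_eq_refl hv]⟩
  · rintro ⟨i, rfl⟩
    exact ⟨refl i, (mem_norm_iff one_ne_zero).2 ⟨vv i, Q6_vv i, rfl⟩, rfl⟩

theorem ker_psi0 : psi0.ker = Subgroup.center ↥RS := by
  ext g
  rw [MonoidHom.mem_ker, Subgroup.mem_center_iff]
  constructor
  · intro h w
    obtain ⟨w, hw⟩ := w
    apply Subtype.ext
    show w * g = g * w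
    induction hw using Subgroup.closure_induction with
    | mem y hy =>
      obtain ⟨v, hv, rfl⟩ := (mem_norm_iff one_ne_zero).1 hy
      rw [reflection_eq_refl hv]
      have h1 := conj_refl (g : Iso6) (pt v)
      rw [show psi (g : Iso6) = 1 from h, Equiv.Perm.one_apply, mul_inv_eq_iff_eq_mul] at h1
      exact h1.symm
    | one => simp
    | mul a b _ _ ha hb => rw [mul_assoc, hb, ← mul_assoc, ha, mul_assoc]
    | inv a _ ha =>
      calc a⁻¹ * (g : Iso6) = a⁻¹ * ((g : Iso6) * a) * a⁻¹ := by group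
        _ = a⁻¹ * (a * (g : Iso6)) * a⁻¹ := by rw [ha]
        _ = (g : Iso6) * a⁻¹ := by group
  · intro h
    refine Equiv.ext fun i => refl_injective ?_
    have h1 := conj_refl (g : Iso6) i
    have h2 : (refl i) * (g : Iso6) = g * refl i := congrArg Subtype.val (h ⟨refl i, refl_mem i⟩)
    rw [← h2, mul_inv_cancel_right] at h1
    exact h1.symm

end CfsgLib.FischerRecog22.Refl6
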