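import Cfsg.Agent.Lib.CosetEnum.Fi22U6.Cover
import Cfsg.Agent.Lib.FischerRecog22.ModelTypeData
import Cfsg.Agent.Lib.FischerRecog22.ModelTypeRefl
import Cfsg.Agent.Lib.Classical.Herm.Std

/-!
The presented group `Fi22` with the class of its first generator is of type M(22).
-/

set_option autoImplicit false
set_option maxRecDepth 100000

namespace CfsgLib.FischerRecog22

open CfsgLib.CosetEnum

namespace Model22

open CfsgLib.CosetEnum.Fi22U6 (z z_comm mem_of_fix π_word)

local notation "G" => Cfsg.Spor.Fi22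
local notation "D" => (conjugatesOf z : Set Cfsg.Spor.Fi22)

/-- The first point. -/
abbrev p0 : Fin 3510 := ⟨0, by omega⟩

/-- A chosen element moving the first point to a point. -/
noncomputable def wp (p : Fin 3510) : G := (Fi22.transitive (by omega) p).choose

theorem π_wp (p : Fin 3510) : Fi22.π (wp p) p0 = p := (Fi22.transitive (by omega) p).choose_spec

/-- The transposition of a point. -/
noncomputable def tp (p : Fin 3510) : G := wp p * z * (wp p)⁻¹

theorem tp_eq {w : G} {p : Fin 3510} (h : Fi22.π w p0 = p) : tp p = w * z * w⁻¹ := by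
  have hmem : w⁻¹ * wp p ∈ Fi22.H := mem_of_fix _ (by
    rw [map_mul, map_inv, Equiv.Perm.mul_apply, π_wp, Equiv.Perm.inv_eq_iff_eq, h])
  calc tp p = w * ((w⁻¹ * wp p) * z) * (wp p)⁻¹ := by rw [tp]; group
    _ = w * (z * (w⁻¹ * wp p)) * (wp p)⁻¹ := by rw [z_comm _ hmem]
    _ = w * z * w⁻¹ := by group

theorem tp_zero : tp p0 = z := by rw [tp_eq (w := 1) (by simp)]; simp

theorem conj_tp (g : G) (p : Fin 3510) : g * tp p * g⁻¹ = tp (Fi22.π g p) := by
  rw [tp_eq (w := g * wp p) (p := Fi22.π g p) (by rw [map_mul, Equiv.Perm.mul_apply, π_wp]), tp]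
  group

theorem tp_mem (p : Fin 3510) : tp p ∈ D := isConj_iff.2 ⟨wp p, rfl⟩

theorem exists_tp {d : G} (hd : d ∈ D) : ∃ p, tp p = d := by
  obtain ⟨w, rfl⟩ := isConj_iff.1 hd
  exact ⟨_, tp_eq rfl⟩

theorem fix_of_commute {g : G} (h : g * z = z * g) : Fi22.π g p0 = p0 :=
  Fi22.sub_fix (by omega) g (Fi22U6.centralizer_z ▸ Subgroup.mem_centralizer_singleton_iff.2 h)

theorem tp_injective : Function.Injective tp := by
  intro p q h
  have h1 : (wp q)⁻¹ * wp p * z = z * ((wp q)⁻¹ * wp p) := by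
    calc (wp q)⁻¹ * wp p * z = (wp q)⁻¹ * tp p * wp p := by rw [tp]; group
      _ = (wp q)⁻¹ * tp q * wp p := by rw [h]
      _ = z * ((wp q)⁻¹ * wp p) := by rw [tp]; group
  have h2 := fix_of_commute h1
  rwa [map_mul, map_inv, Equiv.Perm.mul_apply, π_wp, Equiv.Perm.inv_eq_iff_eq, π_wp] at h2

theorem commute_tp_iff (p q : Fin 3510) : Commute (tp p) (tp q) ↔ Fi22.π (tp q) p = p := by
  rw [← tp_injective.eq_iff, ← conj_tp, mul_inv_eq_iff_eq_mul]
  exact ⟨fun h => h.eq.symm, fun h => h.symm⟩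

/-- Letters of a word conjugating the first generator. -/
def cword (w : List ℕ) : List ℕ := w ++ [0] ++ w.reverse

theorem π_tp_word (w : List ℕ) (hw : ∀ x ∈ w, x < 16) {p : Fin 3510}
    (hp : scan Fi22.table w.reverse 0 = p.val) (k : Fin 3510) :
    (Fi22.π (tp p) k : ℕ) = scan Fi22.table (cword w).reverse k := by
  have h : Fi22.π ((w.map Fi22.g).prod) p0 = p := Fin.ext (by rw [π_word w hw]; exact hp)
  have hl : ∀ x ∈ cword w, x < 16 := by
    intro x hx
    simp only [cword, List.mem_append, List.mem_reverse, List.mem_singleton] at hx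
    rcases hx with (hx | hx) | hx
    exacts [hw x hx, by omega, hw x hx]
  rw [tp_eq h, Fi22U6.word_inv w hw, ← π_word _ hl, cword, List.map_append, List.map_append,
    List.prod_append, List.prod_append, List.map_singleton, List.prod_singleton]
  rfl

/-! ### The common link of the first transposition and a second one -/

/-- The second point. -/
abbrev q0 : Fin 3510 := ⟨2, by omega⟩

theorem scan_q0 : scan Fi22.table [0, 1].reverse 0 = (q0 : Fin 3510).val :=
  Nat.eq_of_beq_eq_true (by decide +kernel)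

theorem π_z (k : Fin 3510) : (Fi22.π z k : ℕ) = act Fi22.table 0 k := Fi22U6.π_g 0 (by omega) k

theorem π_q (k : Fin 3510) : (Fi22.π (tp q0) k : ℕ) = scan Fi22.table (cword [0, 1]).reverse k :=
  π_tp_word [0, 1] (by decide) scan_q0 k

theorem not_commute : ¬ Commute z (tp q0) := by
  intro h
  rw [← tp_zero] at h
  have h1 := congrArg Fin.val ((commute_tp_iff _ _).1 h)
  rw [π_q] at h1
  exact absurd h1 (Nat.ne_of_beq_eq_false (by decide +kernel))

theorem sig_lt : ∀ i : Fin 126, Data.sigT.get 20 i.val < 3510 := by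
  intro i
  exact Nat.le_of_ble_eq_true ((by decide +kernel : ∀ i : Fin 126, Nat.blt (Data.sigT.get 20 i.val) 3510 = true) i)

/-- The point with a number. -/
noncomputable def sig (i : Fin 126) : Fin 3510 := ⟨Data.sigT.get 20 i.val, sig_lt i⟩

theorem back_sig : ∀ i : Fin 126, Data.backT.get 20 (Data.sigT.get 20 i.val) = i.val := by
  intro i
  exact Nat.eq_of_beq_eq_true ((by decide +kernel : ∀ i : Fin 126,
    Nat.beq (Data.backT.get 20 (Data.sigT.get 20 i.val)) i.val = true) i)

theorem sig_injective : Function.Injective sig := fun i j h => Fin.ext (by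
  rw [← back_sig i, ← back_sig j, show Data.sigT.get 20 i.val = _ from congrArg Fin.val h]; rfl)

theorem sig_props : ∀ i : Fin 126, (Nat.beq (act Fi22.table 0 (Data.sigT.get 20 i.val)) (Data.sigT.get 20 i.val)
    && Nat.beq (scan Fi22.table (cword [0, 1]).reverse (Data.sigT.get 20 i.val)) (Data.sigT.get 20 i.val)
    && !Nat.beq (Data.sigT.get 20 i.val) 0 && !Nat.beq (Data.sigT.get 20 i.val) 2) = true := by
  decide +kernel

/-- At a point in the common link the number is right. -/
noncomputable def coverTest (k : ℕ) : Bool :=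
  (!(Nat.beq (act Fi22.table 0 k) k && Nat.beq (scan Fi22.table (cword [0, 1]).reverse k) k) ||
    Nat.beq k 0 || Nat.beq k 2) ||
  (Nat.blt (Data.backT.get 20 k) 126 && Nat.beq (Data.sigT.get 20 (Data.backT.get 20 k)) k)

theorem coverTest_ok : allFrom coverTest 3510 0 = true := by decide +kernel

/-- The members commuting with both and different from both. -/
def common : Set G :=
  {y : G | y ∈ D ∧ y ≠ z ∧ Commute z y} ∩ {y : G | y ∈ D ∧ y ≠ tp q0 ∧ Commute (tp q0) y}

theorem common_eq : common = Set.range fun i => tp (sig i) := by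
  ext y
  constructor
  · rintro ⟨⟨hy, hne0, hc0⟩, -, hne2, hc2⟩
    obtain ⟨p, rfl⟩ := exists_tp hy
    have e0 := congrArg Fin.val ((commute_tp_iff p p0).1 (tp_zero ▸ hc0.symm))
    rw [tp_zero, π_z] at e0
    have e2 := congrArg Fin.val ((commute_tp_iff p q0).1 hc2.symm)
    rw [π_q] at e2
    have hb : Data.backT.get 20 p.val < 126 ∧ Data.sigT.get 20 (Data.backT.get 20 p.val) = p.val := by
      have h := allFrom_spec _ _ _ coverTest_ok p.val (Nat.zero_le _) (by have := p.2; omega)
      simp only [coverTest, Bool.or_eq_true, Bool.and_eq_true, Bool.not_eq_true'] at h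
      rcases h with ((h | h) | h) | ⟨h1, h2⟩
      · have b0 : Nat.beq (act Fi22.table 0 p.val) p.val = true := by
          rw [e0]; exact Nat.beq_refl _
        have b2 : Nat.beq (scan Fi22.table (cword [0, 1]).reverse p.val) p.val = true := by
          rw [e2]; exact Nat.beq_refl _
        rw [b0, b2] at h
        exact absurd h (by decide)
      · exact absurd (show tp p = z by
          rw [show p = p0 from Fin.ext (Nat.eq_of_beq_eq_true h), tp_zero]) hne0
      · exact absurd (show tp p = tp q0 by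
          rw [show p = q0 from Fin.ext (Nat.eq_of_beq_eq_true h)]) hne2
      · exact ⟨Nat.le_of_ble_eq_true h1, Nat.eq_of_beq_eq_true h2⟩
    exact ⟨⟨_, hb.1⟩, congrArg tp (Fin.ext hb.2)⟩
  · rintro ⟨i, rfl⟩
    have h := sig_props i
    simp only [Bool.and_eq_true, Bool.not_eq_true'] at h
    obtain ⟨⟨⟨h0, h2⟩, hn0⟩, hn2⟩ := h
    refine ⟨⟨tp_mem _, fun he => ?_, ?_⟩, tp_mem _, fun he => ?_, ?_⟩
    · exact Nat.ne_of_beq_eq_false hn0 (congrArg Fin.val (tp_injective (he.trans tp_zero.symm)))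
    · rw [← tp_zero]
      refine ((commute_tp_iff _ _).2 ?_).symm
      rw [tp_zero]
      exact Fin.ext (by rw [π_z]; exact Nat.eq_of_beq_eq_true h0)
    · exact Nat.ne_of_beq_eq_false hn2 (congrArg Fin.val (tp_injective he))
    · exact ((commute_tp_iff _ _).2 (Fin.ext (by rw [π_q]; exact Nat.eq_of_beq_eq_true h2))).symm

/-! ### The transpositions act as the reflections -/

/-- The transposition with a number acts as the reflection with that number. -/
def Good (i : Fin 126) : Prop := ∀ j, Fi22.π (tp (sig i)) (sig j) = sig (Refl6.rp i j)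

theorem gens_ok : ∀ k : Fin 6,
    ((Data.gens.getD k.val (0, [])).2.all (fun x => Nat.blt x 16) &&
      Nat.beq (scan Fi22.table (Data.gens.getD k.val (0, [])).2.reverse 0)
        (Data.sigT.get 20 ((Data.gens.getD k.val (0, [])).1 % 126))) = true := by
  decide +kernel

theorem gens_act : ∀ (k : Fin 6) (j : Fin 126),
    Nat.beq (scan Fi22.table (cword (Data.gens.getD k.val (0, [])).2).reverse (Data.sigT.get 20 j.val))
      (Data.sigT.get 20
        (Refl6.pt (Refl6.rv (Refl6.vv ⟨(Data.gens.getD k.val (0, [])).1 % 126, Nat.mod_lt _ (by decide)⟩)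
          (Refl6.vv j))).val) = true := by
  decide +kernel

/-- The number of a generator. -/
def gn (k : Fin 6) : Fin 126 := ⟨(Data.gens.getD k.val (0, [])).1 % 126, Nat.mod_lt _ (by decide)⟩

theorem good_gn (k : Fin 6) : Good (gn k) := by
  intro j
  have h := gens_ok k
  simp only [Bool.and_eq_true, List.all_eq_true] at h
  refine Fin.ext ?_
  rw [π_tp_word _ (fun x hx => Nat.le_of_ble_eq_true (h.1 x hx)) (p := sig (gn k))
    (Nat.eq_of_beq_eq_true h.2), Refl6.rp_apply]
  exact Nat.eq_of_beq_eq_true (gens_act k j)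

theorem good_step {i j : Fin 126} (hi : Good i) (hj : Good j) : Good (Refl6.rp i j) := by
  intro l
  have e : tp (sig (Refl6.rp i j)) = tp (sig i) * tp (sig j) * (tp (sig i))⁻¹ := by rw [conj_tp, hi]
  have hinv : (Fi22.π (tp (sig i)))⁻¹ (sig l) = sig ((Refl6.rp i)⁻¹ l) := by
    rw [Equiv.Perm.inv_eq_iff_eq, hi, ← Equiv.Perm.mul_apply, mul_inv_cancel, Equiv.Perm.one_apply]
  have e2 : Refl6.rp (Refl6.rp i j) = Refl6.rp i * Refl6.rp j * (Refl6.rp i)⁻¹ := Refl6.rp_conj _ _
  rw [e, map_mul, map_mul, map_inv, Equiv.Perm.mul_apply, Equiv.Perm.mul_apply, hinv, hj, hi, e2]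
  rfl

theorem par_ok : ∀ t : Fin 126,
    (Nat.blt (Data.parK.get 20 t.val) 6 && Nat.blt (Data.parJ.get 20 t.val) 126 &&
      ((Nat.beq (Data.rankT.get 20 t.val) 0 &&
          Nat.beq ((Data.gens.getD (Data.parK.get 20 t.val) (0, [])).1 % 126) t.val) ||
        (Nat.blt (Data.rankT.get 20 (Data.parJ.get 20 t.val)) (Data.rankT.get 20 t.val) &&
          Nat.beq
            (Refl6.pt (Refl6.rv
              (Refl6.vv ⟨(Data.gens.getD (Data.parK.get 20 t.val) (0, [])).1 % 126, Nat.mod_lt _ (by decide)⟩)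
              (Refl6.vv ⟨Data.parJ.get 20 t.val % 126, Nat.mod_lt _ (by decide)⟩))).val t.val))) = true := by
  decide +kernel

theorem good_all (i : Fin 126) : Good i := by
  suffices ∀ (r : ℕ) (t : Fin 126), Data.rankT.get 20 t.val = r → Good t from this _ i rfl
  intro r
  induction r using Nat.strong_induction_on with
  | _ r ih =>
    intro t ht
    have h := par_ok t
    simp only [Bool.and_eq_true, Bool.or_eq_true] at h
    obtain ⟨⟨hk, hj⟩, h⟩ := h
    have hk' : Data.parK.get 20 t.val < 6 := Nat.le_of_ble_eq_true hk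
    have hj' : Data.parJ.get 20 t.val < 126 := Nat.le_of_ble_eq_true hj
    rcases h with ⟨-, he⟩ | ⟨hr, he⟩
    · have h1 := good_gn ⟨_, hk'⟩
      rwa [show gn ⟨_, hk'⟩ = t from Fin.ext (Nat.eq_of_beq_eq_true he)] at h1
    · have hlt : Data.rankT.get 20 (Data.parJ.get 20 t.val) < r := ht ▸ Nat.le_of_ble_eq_true hr
      have h1 := good_step (good_gn ⟨_, hk'⟩) (ih _ hlt ⟨_, hj'⟩ rfl)
      have e : Refl6.rp (gn ⟨_, hk'⟩) ⟨_, hj'⟩ = t := by
        refine Fin.ext ?_
        rw [Refl6.rp_apply]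
        have h2 := Nat.eq_of_beq_eq_true he
        simp only [Nat.mod_eq_of_lt hj'] at h2
        exact h2
      rwa [e] at h1

/-! ### The quotient of the common link group -/

/-- The group generated by the common link. -/
abbrev L : Subgroup G := Subgroup.closure common

theorem exists_act : ∀ l : ↥L, ∃ a : Equiv.Perm (Fin 126), ∀ j, Fi22.π (l : G) (sig j) = sig (a j) := by
  rintro ⟨l, hl⟩
  induction hl using Subgroup.closure_induction with
  | mem y hy =>
    rw [common_eq] at hy
    obtain ⟨i, rfl⟩ := hy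
    exact ⟨Refl6.rp i, good_all i⟩
  | one => exact ⟨1, fun j => by simp⟩
  | mul a b _ _ ha hb =>
    obtain ⟨x, hx⟩ := ha
    obtain ⟨y, hy⟩ := hb
    exact ⟨x * y, fun j => by simp [hx, hy]⟩
  | inv a _ ha =>
    obtain ⟨x, hx⟩ := ha
    exact ⟨x⁻¹, fun j => by
      rw [map_inv, Equiv.Perm.inv_eq_iff_eq, hx, ← Equiv.Perm.mul_apply, mul_inv_cancel, Equiv.Perm.one_apply]⟩

/-- The action on the numbers. -/
noncomputable def phi : ↥L →* Equiv.Perm (Fin 126) :=
  MonoidHom.mk' (fun l => (exists_act l).choose) fun a b => Equiv.ext fun j => sig_injective (by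
    rw [← (exists_act (a * b)).choose_spec j, Subgroup.coe_mul, map_mul, Equiv.Perm.mul_apply,
      (exists_act b).choose_spec j, (exists_act a).choose_spec, Equiv.Perm.mul_apply])

theorem phi_spec (l : ↥L) (j : Fin 126) : Fi22.π (l : G) (sig j) = sig (phi l j) :=
  (exists_act l).choose_spec j

theorem phi_gen (i : Fin 126) (h : tp (sig i) ∈ L) : phi ⟨_, h⟩ = Refl6.rp i :=
  Equiv.ext fun j => sig_injective ((phi_spec ⟨_, h⟩ j).symm.trans (good_all i j))

theorem gen_mem (i : Fin 126) : tp (sig i) ∈ L :=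
  Subgroup.subset_closure (by rw [common_eq]; exact ⟨i, rfl⟩)

theorem ker_phi : phi.ker = Subgroup.center ↥L := by
  ext g
  rw [MonoidHom.mem_ker, Subgroup.mem_center_iff]
  constructor
  · intro h w
    obtain ⟨w, hw⟩ := w
    apply Subtype.ext
    show w * g = g * w
    induction hw using Subgroup.closure_induction with
    | mem y hy =>
      rw [common_eq] at hy
      obtain ⟨i, rfl⟩ := hy
      have h1 := conj_tp (g : G) (sig i)
      rw [phi_spec, h, Equiv.Perm.one_apply, mul_inv_eq_iff_eq_mul] at h1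
      exact h1.symm
    | one => simp
    | mul a b _ _ ha hb => rw [mul_assoc, hb, ← mul_assoc, ha, mul_assoc]
    | inv a _ ha =>
      calc a⁻¹ * (g : G) = a⁻¹ * ((g : G) * a) * a⁻¹ := by group
        _ = a⁻¹ * (a * (g : G)) * a⁻¹ := by rw [ha]
        _ = (g : G) * a⁻¹ := by group
  · intro h
    refine Equiv.ext fun i => sig_injective (tp_injective ?_)
    rw [← phi_spec, ← conj_tp, Equiv.Perm.one_apply]
    have h2 : tp (sig i) * (g : G) = g * tp (sig i) := congrArg Subtype.val (h ⟨_, gen_mem i⟩)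
    rw [← h2, mul_inv_cancel_right]

theorem range_phi : phi.range = Subgroup.closure (Set.range Refl6.rp) := by
  have htop : (⊤ : Subgroup ↥L) = Subgroup.closure (Subtype.val ⁻¹' common) :=
    (Subgroup.closure_closure_coe_preimage (k := common)).symm
  rw [MonoidHom.range_eq_map, htop, MonoidHom.map_closure]
  refine congrArg _ (Set.ext fun x => ⟨?_, ?_⟩)
  · rintro ⟨⟨y, hy'⟩, hy, rfl⟩
    have hy : y ∈ common := hy
    rw [common_eq] at hy
    obtain ⟨i, rfl⟩ := hy
    exact ⟨i, (phi_gen i hy').symm⟩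
  · rintro ⟨i, rfl⟩
    exact ⟨⟨_, gen_mem i⟩, show tp (sig i) ∈ common by rw [common_eq]; exact ⟨i, rfl⟩, phi_gen i _⟩

theorem common_proj :
    Cfsg.IsProjReflectionGroupModThree (↥L ⧸ Subgroup.center ↥L) 6 1 1 :=
  ⟨Refl6.Q6, Refl6.nondegenerate, Refl6.gram_det,
    ⟨((QuotientGroup.quotientMulEquivOfEq ker_phi.symm).trans (QuotientGroup.quotientKerEquivRange phi)).trans
      (((MulEquiv.subgroupCongr (range_phi.trans Refl6.range_psi0.symm)).trans
        (QuotientGroup.quotientKerEquivRange Refl6.psi0).symm).trans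
          (QuotientGroup.quotientMulEquivOfEq Refl6.ker_psi0))⟩⟩

/-! ### The link of the first transposition generates its centraliser -/

/-- The link. -/
def linkSet : Set G := {y : G | y ∈ D ∧ y ≠ z ∧ Commute z y}

theorem link_closure : Subgroup.closure linkSet = Fi22.H := by
  set N := Subgroup.closure linkSet with hN
  have hle : N ≤ Fi22.H := (Subgroup.closure_le _).2 fun y hy => by
    rw [SetLike.mem_coe, ← Fi22U6.centralizer_z]
    exact Subgroup.mem_centralizer_singleton_iff.2 hy.2.2.eq.symm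
  obtain ⟨hc, ⟨e⟩, -⟩ := Fi22U6.doubleCover
  have hinv : ∀ h ∈ Fi22.H, ∀ y ∈ N, h * y * h⁻¹ ∈ N := by
    intro h hh y hy
    have hz : h * z * h⁻¹ = z := by rw [z_comm h hh, mul_inv_cancel_right]
    induction hy using Subgroup.closure_induction with
    | mem y hy =>
      refine Subgroup.subset_closure ⟨?_, ?_, ?_⟩
      · exact IsConj.trans hy.1 (isConj_iff.2 ⟨h, rfl⟩)
      · intro he
        exact hy.2.1 (mul_left_cancel (mul_right_cancel (he.trans hz.symm)))
      · show z * (h * y * h⁻¹) = h * y * h⁻¹ * z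
        calc z * (h * y * h⁻¹) = (h * z * h⁻¹) * (h * y * h⁻¹) := by rw [hz]
          _ = h * (z * y) * h⁻¹ := by group
          _ = h * (y * z) * h⁻¹ := by rw [hy.2.2.eq]
          _ = (h * y * h⁻¹) * (h * z * h⁻¹) := by group
          _ = h * y * h⁻¹ * z := by rw [hz]
    | one => rw [mul_one, mul_inv_cancel]; exact one_mem _
    | mul a b _ _ ha hb => rw [show h * (a * b) * h⁻¹ = (h * a * h⁻¹) * (h * b * h⁻¹) by group]; exact mul_mem ha hb
    | inv a _ ha => rw [show h * a⁻¹ * h⁻¹ = (h * a * h⁻¹)⁻¹ by group]; exact inv_mem ha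
  set N' : Subgroup ↥Fi22.H := N.subgroupOf Fi22.H with hN'
  have : N'.Normal := ⟨fun y hy g => hinv g g.2 y hy⟩
  have : IsSimpleGroup (Cfsg.PSU 6 Fi22U6.F4 2) :=
    CfsgLib.Classical.Herm.isSimpleGroup_psu (q := 2) Fi22U6.hF (by norm_num) (by norm_num)
  have : IsSimpleGroup (↥Fi22.H ⧸ Subgroup.center ↥Fi22.H) := by
    have := e.toEquiv.nontrivial
    exact IsSimpleGroup.isSimpleGroup_of_surjective e.symm.toMonoidHom e.symm.surjective
  have hM : (N'.map (QuotientGroup.mk' (Subgroup.center ↥Fi22.H))).Normal :=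
    Subgroup.Normal.map inferInstance _ (QuotientGroup.mk'_surjective _)
  rcases hM.eq_bot_or_eq_top with hb | ht
  · exfalso
    rw [Subgroup.map_eq_bot_iff, QuotientGroup.ker_mk'] at hb
    obtain ⟨i, j, hij⟩ : ∃ i j : Fin 126, Refl6.rp i j ≠ j := by
      have h : ∃ i j : Fin 126, Refl6.pt (Refl6.rv (Refl6.vv i) (Refl6.vv j)) ≠ j := by decide +kernel
      obtain ⟨i, j, h⟩ := h
      exact ⟨i, j, by rw [Refl6.rp_apply]; exact h⟩
    have hmem : ∀ i, tp (sig i) ∈ N := fun i => Subgroup.subset_closure (by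
      have h : tp (sig i) ∈ common := by rw [common_eq]; exact ⟨i, rfl⟩
      exact h.1)
    have hcz : (⟨_, hle (hmem i)⟩ : ↥Fi22.H) ∈ Subgroup.center ↥Fi22.H := hb (hmem i)
    have h1 : tp (sig j) * tp (sig i) = tp (sig i) * tp (sig j) :=
      congrArg Subtype.val (Subgroup.mem_center_iff.1 hcz ⟨_, hle (hmem j)⟩)
    have h2 := conj_tp (tp (sig i)) (sig j)
    rw [good_all, ← h1, mul_inv_cancel_right] at h2
    exact hij (sig_injective (tp_injective h2.symm))
  · have hsup : N' ⊔ Subgroup.center ↥Fi22.H = ⊤ := by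
      have h := Subgroup.comap_map_eq (QuotientGroup.mk' (Subgroup.center ↥Fi22.H)) N'
      rw [ht, Subgroup.comap_top, QuotientGroup.ker_mk'] at h
      exact h.symm
    refine le_antisymm hle ?_
    have hidx : N'.index ≤ 2 := by
      rw [← hc]
      have h1 := Subgroup.relIndex_sup_right (Subgroup.center ↥Fi22.H) N'
      rw [sup_comm, hsup, Subgroup.relIndex_top_right] at h1
      rw [h1]
      have : Finite ↥(Subgroup.center ↥Fi22.H) := Nat.finite_of_card_ne_zero (by rw [hc]; norm_num)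
      exact Nat.le_of_dvd (by rw [hc]; norm_num) (Subgroup.relIndex_dvd_card _ _)
    have : Finite Cfsg.Spor.Fi22 := Fi22.finite
    have hpos : N'.index ≠ 0 := Subgroup.index_ne_zero_of_finite
    have h1 : N'.index = 1 := by
      have := Fi22U6.no_index_two N'
      omega
    rw [Subgroup.index_eq_one, hN', Subgroup.subgroupOf_eq_top] at h1
    exact h1

theorem center_bot : Subgroup.center G = ⊥ := by
  have : Finite Cfsg.Spor.Fi22 := Fi22.finite
  have := Fi22.Simple.isSimple
  exact center_eq_bot_of_simple (K := G) (by rw [Fi22.card_group]; norm_num)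

end Model22

open Model22 in
/-- The presented `Fi22` is of type M(22) for the class of its first generator. -/
theorem typeM22_fi22 :
    Cfsg.IsOfTypeM22 Cfsg.Spor.Fi22 (conjugatesOf CfsgLib.CosetEnum.Fi22U6.z) := by
  refine ⟨center_bot, CfsgLib.CosetEnum.Fi22U6.z, mem_conjugatesOf_self, tp q0, tp_mem q0, not_commute, ?_, 1,
    one_ne_zero, common_proj⟩
  refine ⟨Fi22U6.F4, inferInstance, inferInstance, by rw [Fi22U6.hF]; norm_num, ?_⟩
  obtain ⟨-, he, -⟩ := Fi22U6.doubleCover
  rw [← link_closure] at he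
  exact he

universe u v

/-- The central quotient of a generated subgroup along an isomorphism. -/
theorem nonempty_quot_congr {X : Type u} {Y : Type v} [Group X] [Group Y] (f : X ≃* Y) (S : Set X)
    {T : Set Y} (hT : T = f '' S) :
    Nonempty ((↥(Subgroup.closure T) ⧸ Subgroup.center ↥(Subgroup.closure T)) ≃*
      (↥(Subgroup.closure S) ⧸ Subgroup.center ↥(Subgroup.closure S))) := by
  subst hT
  have h : (Subgroup.closure S).map f.toMonoidHom = Subgroup.closure (f '' S) :=
    MonoidHom.map_closure _ _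
  let e : ↥(Subgroup.closure (f '' S)) ≃* ↥(Subgroup.closure S) :=
    (MulEquiv.subgroupCongr h.symm).trans (f.subgroupMap (Subgroup.closure S)).symm
  refine ⟨QuotientGroup.congr _ _ e ?_⟩
  ext v
  erw [Subgroup.mem_map_equiv]
  rw [Subgroup.mem_center_iff, Subgroup.mem_center_iff]
  constructor
  · intro hv u
    apply e.symm.injective
    rw [map_mul, map_mul]
    exact hv (e.symm u)
  · intro hv u
    apply e.injective
    rw [map_mul, map_mul, e.apply_symm_apply]
    exact hv (e u)

/-- Type M(22) along an isomorphism. -/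
theorem typeM22_image {X : Type u} {Y : Type v} [Group X] [Group Y] (f : X ≃* Y) {E : Set X}
    (h : Cfsg.IsOfTypeM22 X E) : Cfsg.IsOfTypeM22 Y (f '' E) := by
  obtain ⟨hz, d, hd, c, hc, hdc, ⟨F, iF, iFt, hF, ⟨e⟩⟩, c₃, hc₃, Q, hQ, hdet, ⟨e'⟩⟩ := h
  have hcomm : ∀ a b : X, Commute (f a) (f b) ↔ Commute a b := fun a b =>
    ⟨fun h => f.injective (by rw [map_mul, map_mul]; exact h.eq), fun h => h.map f⟩
  have hs : ∀ a : X, {y : Y | y ∈ f '' E ∧ y ≠ f a ∧ Commute (f a) y} =
      f '' {y : X | y ∈ E ∧ y ≠ a ∧ Commute a y} := by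
    intro a
    ext y
    constructor
    · rintro ⟨⟨x, hx, rfl⟩, hne, hco⟩
      exact ⟨x, ⟨hx, fun he => hne (congrArg f he), (hcomm a x).1 hco⟩, rfl⟩
    · rintro ⟨x, ⟨hx, hne, hco⟩, rfl⟩
      exact ⟨⟨x, hx, rfl⟩, fun he => hne (f.injective he), (hcomm a x).2 hco⟩
  refine ⟨?_, f d, ⟨d, hd, rfl⟩, f c, ⟨c, hc, rfl⟩, fun h => hdc ((hcomm d c).1 h), ?_, c₃, hc₃, ?_⟩
  · refine (Subgroup.eq_bot_iff_forall _).2 fun y hy => ?_
    have h1 : f.symm y ∈ Subgroup.center X := Subgroup.mem_center_iff.2 fun g => f.injective (by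
      rw [map_mul, map_mul, f.apply_symm_apply]; exact Subgroup.mem_center_iff.1 hy (f g))
    rw [hz, Subgroup.mem_bot] at h1
    rw [← f.apply_symm_apply y, h1, map_one]
  · obtain ⟨t⟩ := nonempty_quot_congr f {y : X | y ∈ E ∧ y ≠ d ∧ Commute d y} (hs d)
    exact ⟨F, iF, iFt, hF, ⟨t.trans e⟩⟩
  · obtain ⟨t⟩ := nonempty_quot_congr f
      ({y : X | y ∈ E ∧ y ≠ d ∧ Commute d y} ∩ {y : X | y ∈ E ∧ y ≠ c ∧ Commute c y})
      (T := {y : Y | y ∈ f '' E ∧ y ≠ f d ∧ Commute (f d) y} ∩
        {y : Y | y ∈ f '' E ∧ y ≠ f c ∧ Commute (f c) y})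
      (by rw [hs d, hs c, Set.image_inter f.injective])
    exact ⟨Q, hQ, hdet, ⟨t.trans e'⟩⟩

end CfsgLib.FischerRecog22
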