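import Cfsg.Agent.Lib.FischerRecog22.Local
import Cfsg.Agent.Lib.FischerRecog22.Line
import Cfsg.Agent.Lib.FischerRecog22.ModelType
import Cfsg.Agent.Lib.FischerModel.Fi22Class
import Cfsg.Agent.Lib.U6Cover.Sylow
import Cfsg.Agent.Lib.FischerRecog22.Control
import Cfsg.Agent.Lib.FischerRecog22.Hom

set_option autoImplicit false

/-!
A finite group with the context of the double cover of `PSU(6, 2)` is `Fi22`, with the conjugates of the
involution as class of type M(22).
-/

namespace CfsgLib.FischerRecog22

open Subgroup CfsgLib.U6Cover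
open CfsgLib.CosetEnum

universe u

variable {G : Type u} [Group G] {F : Type} [Field F] [Fintype F] {hF : Fintype.card F = 2 ^ 2}

/-- The data of a quasisimple involution centraliser with quotient `PSU(6, 2)` give a context. -/
theorem exists_ctx {d : G} (hd : orderOf d = 2)
    (hq : Cfsg.IsQuasisimple ↥(centralizer ({d} : Set G)))
    [((zpowers d).subgroupOf (centralizer ({d} : Set G))).Normal]
    (e : ↥(centralizer ({d} : Set G)) ⧸ (zpowers d).subgroupOf (centralizer ({d} : Set G)) ≃*
      Cfsg.PSU 6 F 2)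
    (hnwc : ∃ g : G, g * d * g⁻¹ ∈ centralizer ({d} : Set G) ∧ g * d * g⁻¹ ≠ d) :
    ∃ T : Ctx hF G, T.d = d := by
  let θ : ↥(centralizer ({d} : Set G)) →* Cfsg.PSU 6 F 2 :=
    e.toMonoidHom.comp (QuotientGroup.mk' ((zpowers d).subgroupOf (centralizer ({d} : Set G))))
  have hd2 : d * d = 1 := by rw [← pow_two, ← hd]; exact pow_orderOf_eq_one d
  have hd1 : d ≠ 1 := by rintro rfl; rw [orderOf_one] at hd; exact absurd hd (by norm_num)
  let z : ↥(centralizer ({d} : Set G)) := ⟨d, mem_centralizer_singleton_iff.2 rfl⟩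
  have hmem : ∀ c, θ c = 1 ↔ c = 1 ∨ c = z := by
    intro c
    show e (QuotientGroup.mk c) = 1 ↔ _
    rw [e.map_eq_one_iff, QuotientGroup.eq_one_iff, mem_subgroupOf]
    constructor
    · intro hc
      rcases mem_zpowers_iff.1 hc with ⟨j, hj⟩
      rcases Int.even_or_odd j with ⟨i, rfl⟩ | ⟨i, rfl⟩
      · left
        apply Subtype.ext
        rw [← hj, zpow_add, ← (Commute.refl d).mul_zpow, hd2, one_zpow]
        rfl
      · right
        apply Subtype.ext
        rw [← hj, zpow_add, zpow_one, two_mul, zpow_add, ← (Commute.refl d).mul_zpow, hd2, one_zpow, one_mul]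
    · rintro (rfl | rfl)
      · exact one_mem _
      · exact mem_zpowers d
  let D : Data hF ↥(centralizer ({d} : Set G)) :=
    { θ := θ
      z := z
      surj := e.surjective.comp (QuotientGroup.mk'_surjective _)
      z_sq := Subtype.ext hd2
      z_ne := fun h => hd1 (congrArg Subtype.val h)
      ker := hmem
      central := fun x => Subtype.ext (mem_centralizer_singleton_iff.1 x.2).symm }
  exact ⟨⟨d, D, rfl, hq.1, hnwc⟩, rfl⟩

set_option linter.unusedSectionVars false

variable [Finite G] (T : Ctx hF G)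

/-- The conjugates form a recognised class. -/
theorem recog_of_ctx : Recog hF (conjugatesOf T.d) where
  invol := invol_of_ctx T
  conj := class_conj T
  uni := uni_of_ctx T
  near := near_of_ctx T
  sect := fun U hb hab hx => sect_of_uni (class_conj T) (uni_of_ctx T) U hb hab hx
  some_pair := pair_of_ctx T

/-- The order of the centraliser. -/
theorem card_centralizer_ctx : Nat.card ↥(centralizer ({T.d} : Set G)) = 18393661440 := by
  have hker : Nat.card T.D.θ.ker = 2 := by
    have e : (T.D.θ.ker : Set ↥(centralizer ({T.d} : Set G))) = {1, T.D.z} :=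
      Set.ext fun c => T.D.ker c
    rw [← SetLike.coe_sort_coe, Nat.card_coe_set_eq, e, Set.ncard_pair T.D.z_ne.symm]
  rw [card_eq_card_quotient_mul_card_subgroup T.D.θ.ker, hker,
    Nat.card_congr (QuotientGroup.quotientKerEquivOfSurjective T.D.θ T.D.surj).toEquiv,
    card_psu_six (by rw [Nat.card_eq_fintype_card, hF]; norm_num)]

/-- An embedding sending the first generator to the involution covers its centraliser. -/
theorem centralizer_le_range (φ : Cfsg.Spor.Fi22 →* G) (hinj : Function.Injective φ)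
    (hz : φ Fi22U6.z = T.d) : centralizer ({T.d} : Set G) ≤ φ.range := by
  have hle : Fi22.H.map φ ≤ centralizer ({T.d} : Set G) := by
    rintro _ ⟨w, hw, rfl⟩
    rw [mem_centralizer_singleton_iff, ← hz, ← map_mul, ← map_mul, Fi22U6.z_comm w hw]
  have hcard : Nat.card ↥(centralizer ({T.d} : Set G)) ≤ Nat.card ↥(Fi22.H.map φ) := by
    rw [card_map_of_injective hinj, Fi22.card_H, card_centralizer_ctx T]
  rw [← eq_of_le_of_card_ge hle hcard]
  exact map_le_range _ _

/-- The group is `Fi22`. -/
theorem iso_fi22_of_ctx : ∃ ψ : Cfsg.Spor.Fi22 ≃* G, ψ Fi22U6.z = T.d := by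
  obtain ⟨φ, hz, hinj, -⟩ := exists_hom (recog_of_ctx T) (IsConj.refl T.d)
  have htop := range_eq_top (recog_of_ctx T) φ hinj hz (centralizer_le_range T φ hinj hz)
    (link_conj_of_ctx T T.d (IsConj.refl _))
  exact ⟨MulEquiv.ofBijective φ ⟨hinj, MonoidHom.range_eq_top.1 htop⟩, hz⟩

/-- The conjugates are a class of 3-transpositions of type M(22). -/
theorem typeM22_of_ctx : Cfsg.IsThreeTranspositionClass (conjugatesOf T.d) ∧
    Cfsg.IsOfTypeM22 G (conjugatesOf T.d) := by
  obtain ⟨ψ, hψ⟩ := iso_fi22_of_ctx T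
  have himg : ψ '' conjugatesOf Fi22U6.z = conjugatesOf T.d := by
    ext y
    constructor
    · rintro ⟨x, hx, rfl⟩
      rw [← hψ]
      exact ψ.toMonoidHom.map_isConj hx
    · intro hy
      refine ⟨ψ.symm y, ?_, ψ.apply_symm_apply y⟩
      have h := ψ.symm.toMonoidHom.map_isConj (show IsConj T.d y from hy)
      rwa [MulEquiv.coe_toMonoidHom, ← hψ, MulEquiv.symm_apply_apply] at h
  rw [← himg]
  exact ⟨CfsgLib.FischerModel.class_map ψ Fi22U6.threeClass, typeM22_image ψ typeM22_fi22⟩

end CfsgLib.FischerRecog22
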