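import Cfsg.Agent.Lib.FischerFi22.Frame

set_option autoImplicit false

/-!
A class of involutions whose members have unitary links: near pairs, and sections of the links.
-/

namespace CfsgLib.FischerRecog22

open CfsgLib.Classical.Herm HermSpace
open CfsgLib.ThreeTrans (link)
open CfsgLib.FischerFi22 (Uni)

universe u

variable {G : Type u} [Group G] {F : Type} [Field F] [Fintype F]

/-- A set of members seen through the vectors `P` that meets each singular line through one of its
members in exactly one further member. -/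
structure Sect (hF : Fintype.card F = 2 ^ 2) (P : (Fin 6 → F) → G → Prop) (S : Set G) : Prop where
  refl : ∀ x ∈ S, ∀ y ∈ S, y * x * y⁻¹ ∈ S
  line : ∀ {x v w}, x ∈ S → P v x → (stdHerm hF 6).h w w = 0 → (stdHerm hF 6).h v w = 0 →
    (∀ c : F, w ≠ c • v) → ∃ (c : F) (y : G), y ∈ S ∧ P (w + c • v) y
  unique : ∀ {x y z u v} {c : F}, x ∈ S → y ∈ S → z ∈ S → P u x → P v y →
    (stdHerm hF 6).h u v = 0 → x ≠ y → c ≠ 0 → P (u + c • v) z → False

/-- A class of involutions with unitary links and near pairs of product order at most three. -/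
structure Recog (hF : Fintype.card F = 2 ^ 2) (D : Set G) : Prop where
  invol : ∀ x ∈ D, orderOf x = 2
  conj : ∀ g : G, ∀ x ∈ D, g * x * g⁻¹ ∈ D
  uni : ∀ x ∈ D, ∃ P, Uni hF D x P
  near : ∀ {a x y : G}, x ∈ D → y ∈ D → a ∈ D → Commute a x → Commute a y →
    (x * y) ^ 2 = 1 ∨ (x * y) ^ 3 = 1
  sect : ∀ {a b x : G} {P : (Fin 6 → F) → G → Prop}, Uni hF D a P → b ∈ D → ¬ Commute a b →
    x ∈ link D a ∩ link D b → Sect hF P (link D a ∩ link D b)
  some_pair : ∀ a ∈ D, ∃ b ∈ D, ¬ Commute a b ∧ (link D a ∩ link D b).Nonempty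

/-- Two members with a common neighbour form a set of 3-transpositions. -/
theorem Recog.near_set {hF : Fintype.card F = 2 ^ 2} {D : Set G} (R : Recog hF D) {a x y : G}
    (hx : x ∈ D) (hy : y ∈ D) (ha : a ∈ D) (hax : Commute a x) (hay : Commute a y) :
    Cfsg.IsThreeTranspositionSet ({x, y} : Set G) := by
  have hsq : ∀ z ∈ D, (z * z) ^ 2 = 1 ∨ (z * z) ^ 3 = 1 := fun z hz => Or.inl (by
    have := pow_orderOf_eq_one z
    rw [R.invol z hz, pow_two] at this
    rw [this, one_pow])
  refine ⟨?_, ?_⟩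
  · rintro _ (rfl | rfl)
    exacts [R.invol _ hx, R.invol _ hy]
  · rintro _ (rfl | rfl) _ (rfl | rfl)
    exacts [hsq _ hx, R.near hx hy ha hax hay, R.near hy hx ha hay hax, hsq _ hy]

end CfsgLib.FischerRecog22
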