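import Cfsg.Agent.Lib.FischerRecog22.Third
import Mathlib.GroupTheory.Coset.Basic
import Mathlib.GroupTheory.GroupAction.Quotient

set_option autoImplicit false

/-!
A subgroup containing the centralisers of its members of the class is the whole group.
-/

namespace CfsgLib.FischerRecog22

open CfsgLib.Classical.Herm HermSpace CfsgLib.UnitaryTransv
open CfsgLib.ThreeTrans (link)

attribute [-simp] stdHerm_h

universe u

variable {G : Type u} [Group G] {D : Set G}

/-- What is needed of the subgroup. -/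
structure Inner (D : Set G) (M : Subgroup G) : Prop where
  cls : ∀ x ∈ D, ∀ y ∈ D, ∃ g, g * x * g⁻¹ = y
  cen : ∀ x ∈ D, x ∈ M → ∀ g, Commute g x → g ∈ M
  trans : ∀ x ∈ D, x ∈ M → ∀ y ∈ D, y ∈ M → ∃ m ∈ M, m * x * m⁻¹ = y
  fix : ∀ u ∈ M, u * u = 1 → u ≠ 1 → ∃ x ∈ D, x ∈ M ∧ Commute x u
  common : ∀ x ∈ D, x ∈ M → ∀ y ∈ D, y ∈ M → ¬ Commute x y → ∃ c ∈ D, c ∈ M ∧ Commute x c ∧ Commute y c
  simple : ∀ N : Subgroup G, N ≤ M → (∀ m ∈ M, ∀ n ∈ N, m * n * m⁻¹ ∈ N) → N ≠ ⊥ → M ≤ N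

theorem commute_conj {w x y : G} (h : Commute x y) : Commute (w * x * w⁻¹) (w * y * w⁻¹) :=
  (CfsgLib.ThreeTrans.commute_conj_iff' w x y).2 h

theorem commute_back {w s x : G} (h : Commute s (w * x * w⁻¹)) : Commute (w⁻¹ * s * w) x := by
  have := commute_conj (w := w⁻¹) h
  simpa [mul_assoc] using this

theorem conj_eq_of_commute {w u : G} (h : Commute w u) : w * u * w⁻¹ = u := by
  rw [h.eq, mul_inv_cancel_right]

/-- Two involutions are conjugate or commute with an involution. -/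
theorem dihedral [Finite G] {x y : G} (hx : x * x = 1) (hy : y * y = 1) :
    (∃ v, (∀ t, Commute t x → Commute t y → Commute t v) ∧ v * x * v⁻¹ = y) ∨
    ∃ s, s * s = 1 ∧ s ≠ 1 ∧ Commute x s ∧ Commute y s ∧
      (∀ t, Commute t x → Commute t y → Commute t s) ∧
      ∃ v v', (∀ t, Commute t x → Commute t y → Commute t v ∧ Commute t v') ∧
        ((v * x * v⁻¹ = x * s ∧ v' * y * v'⁻¹ = y * s) ∨ (v * x * v⁻¹ = y * s ∧ v' * y * v'⁻¹ = x * s)) := by
  set r := x * y with hr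
  have xi : x⁻¹ = x := inv_eq_of_mul_eq_one_left hx
  have yi : y⁻¹ = y := inv_eq_of_mul_eq_one_left hy
  have hxr : ∀ j : ℕ, x * r ^ j * x⁻¹ = (r ^ j)⁻¹ := fun j => by
    rw [← conj_pow, ← inv_pow]
    congr 1
    rw [hr, mul_inv_rev, xi, yi, ← mul_assoc, hx, one_mul]
  have hyr : ∀ j : ℕ, y * r ^ j * y⁻¹ = (r ^ j)⁻¹ := fun j => by
    rw [← conj_pow, ← inv_pow]
    congr 1
    rw [hr, mul_inv_rev, xi, yi, mul_assoc, mul_assoc, hy, mul_one]
  have cx : ∀ j : ℕ, r ^ j * x * (r ^ j)⁻¹ = r ^ (j + j) * x := fun j => by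
    rw [← hxr j, pow_add]
    calc r ^ j * x * (x * r ^ j * x⁻¹) = r ^ j * (x * x) * r ^ j * x⁻¹ := by group
      _ = r ^ j * r ^ j * x := by rw [hx, mul_one, xi]
  have cy : ∀ j : ℕ, r ^ j * y * (r ^ j)⁻¹ = r ^ (j + j) * y := fun j => by
    rw [← hyr j, pow_add]
    calc r ^ j * y * (y * r ^ j * y⁻¹) = r ^ j * (y * y) * r ^ j * y⁻¹ := by group
      _ = r ^ j * r ^ j * y := by rw [hy, mul_one, yi]
  have ht : ∀ (j : ℕ) t, Commute t x → Commute t y → Commute t (r ^ j) := fun j t h1 h2 =>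
    (h1.mul_right h2).pow_right j
  have hry : r * y = x := by rw [hr, mul_assoc, hy, mul_one]
  rcases Nat.even_or_odd (orderOf r) with ⟨k, hk⟩ | ⟨k, hk⟩
  · refine Or.inr ⟨r ^ k, ?_⟩
    have hs : r ^ k * r ^ k = 1 := by rw [← pow_add, ← hk, pow_orderOf_eq_one]
    have si : (r ^ k)⁻¹ = r ^ k := inv_eq_of_mul_eq_one_left hs
    have hs1 : r ^ k ≠ 1 := fun e => by
      have h1 := orderOf_dvd_of_pow_eq_one e
      have h2 := orderOf_pos r
      have := Nat.le_of_dvd (by omega) h1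
      omega
    have hxs : x * r ^ k = r ^ k * x := by
      have := hxr k
      rw [si] at this
      exact mul_inv_eq_iff_eq_mul.1 this
    have hys : y * r ^ k = r ^ k * y := by
      have := hyr k
      rw [si] at this
      exact mul_inv_eq_iff_eq_mul.1 this
    refine ⟨hs, hs1, hxs, hys, ht k, ?_⟩
    rcases Nat.even_or_odd k with ⟨i, hi⟩ | ⟨i, hi⟩
    · exact ⟨r ^ i, r ^ i, fun t h1 h2 => ⟨ht i t h1 h2, ht i t h1 h2⟩,
        Or.inl ⟨by rw [cx, hxs, hi], by rw [cy, hys, hi]⟩⟩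
    · refine ⟨r ^ i, r ^ (i + 1), fun t h1 h2 => ⟨ht i t h1 h2, ht (i + 1) t h1 h2⟩, Or.inr ⟨?_, ?_⟩⟩
      · rw [cx, hys, hi, ← hry]
        rw [← mul_assoc, ← pow_succ, show i + i + 1 = 2 * i + 1 by omega]
      · rw [cy, hxs, hi, show i + 1 + (i + 1) = 2 * i + 1 + 1 by omega, pow_succ, mul_assoc, hry]
  · refine Or.inl ⟨r ^ k, ht k, ?_⟩
    have h1 : r ^ (k + k + 1) = 1 := by rw [show k + k + 1 = orderOf r by omega, pow_orderOf_eq_one]
    rw [cx, ← hry, ← mul_assoc, ← pow_succ, h1, one_mul]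

variable {F : Type} [Field F] [Fintype F] {hF : Fintype.card F = 2 ^ 2}

theorem Recog.sq (R : Recog hF D) {x : G} (hx : x ∈ D) : x * x = 1 := by
  rw [← pow_two, ← R.invol x hx, pow_orderOf_eq_one]

theorem Recog.ne_one (R : Recog hF D) {x : G} (hx : x ∈ D) : x ≠ 1 := fun h => by
  have := R.invol x hx
  rw [h, orderOf_one] at this
  exact absurd this (by norm_num)

theorem Recog.prod_two (R : Recog hF D) {a b : G} (ha : a ∈ D) (hb : b ∈ D) (hne : a ≠ b)
    (hab : Commute a b) : a * b ∉ D := fun h => by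
  obtain ⟨P, U⟩ := R.uni a ha
  exact prod_two_not_mem U (fun x => R.sq) (fun x => R.ne_one) ⟨hb, hne.symm, hab⟩ h rfl

theorem Recog.prod_three (R : Recog hF D) {a b c : G} (ha : a ∈ D) (hb : b ∈ D) (hc : c ∈ D)
    (hab : Commute a b) (hac : Commute a c) (hbc : Commute b c) (h1 : a ≠ b) (h2 : a ≠ c) (h3 : b ≠ c) :
    a * b * c ∉ D := fun h => by
  obtain ⟨P, U⟩ := R.uni a ha
  exact prod_three_not_mem U (fun x => R.sq) ⟨hb, h1.symm, hab⟩ ⟨hc, h2.symm, hac⟩ hbc h3 h rfl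

theorem Recog.not_conj (R : Recog hF D) {a b c q : G} (ha : a ∈ D) (hb : b ∈ D) (hc : c ∈ D)
    (hab : Commute a b) (hac : Commute a c) (hbc : Commute b c) (h1 : a ≠ b) (h2 : a ≠ c) (h3 : b ≠ c)
    (hq : Commute q (a * b)) : q * a * q⁻¹ ≠ c := fun e => by
  refine R.prod_three ha hb hc hab hac hbc h1 h2 h3 ?_
  have h := R.conj q b hb
  convert h using 1
  calc a * b * c = c⁻¹ * (a * b) := by
        rw [inv_eq_of_mul_eq_one_left (R.sq hc)]; exact (hac.mul_left hbc).eq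
    _ = (q * a * q⁻¹)⁻¹ * (q * (a * b) * q⁻¹) := by rw [e, conj_eq_of_commute hq]
    _ = q * b * q⁻¹ := by group

namespace Inner

variable {M : Subgroup G}

theorem mem_of_conj (I : Inner D M) (R : Recog hF D) {x g : G} (hx : x ∈ D) (hxM : x ∈ M)
    (h : g * x * g⁻¹ ∈ M) : g ∈ M := by
  obtain ⟨m, hm, e⟩ := I.trans x hx hxM _ (R.conj g x hx) h
  have hc : Commute (m⁻¹ * g) x := by
    show m⁻¹ * g * x = x * (m⁻¹ * g)
    calc m⁻¹ * g * x = m⁻¹ * (g * x * g⁻¹) * g := by group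
      _ = x * (m⁻¹ * g) := by rw [← e]; group
  have := mul_mem hm (I.cen x hx hxM _ hc)
  rwa [mul_inv_cancel_left] at this

theorem mem_of_conj' (I : Inner D M) (R : Recog hF D) {x g : G} (hx : x ∈ D) (hxM : x ∈ M)
    (h : g⁻¹ * x * g ∈ M) : g ∈ M := by
  have := I.mem_of_conj R (g := g⁻¹) hx hxM (by rwa [inv_inv])
  simpa using this

theorem commute_of_prod (I : Inner D M) (R : Recog hF D) {a b z : G} (ha : a ∈ D) (haM : a ∈ M)
    (hb : b ∈ D) (hbM : b ∈ M) (hz : z ∈ D) (hzM : z ∈ M) (hne : a ≠ b)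
    (h : Commute z (a * b)) : Commute z a ∧ Commute z b := by
  by_cases h1 : Commute z a
  · exact ⟨h1, by have := h1.mul_right h; rwa [← mul_assoc, R.sq ha, one_mul] at this⟩
  by_cases h2 : Commute z b
  · exact absurd (by have := h.mul_right h2; rwa [mul_assoc, R.sq hb, mul_one] at this) h1
  exfalso
  have braid : ∀ y ∈ D, y ∈ M → ¬ Commute z y → z * y * z = y * z * y := by
    intro y hy hyM hn
    obtain ⟨c, hc, hcM, hzc, hyc⟩ := I.common z hz hzM y hy hyM hn
    have hset := R.near_set hz hy hc hzc.symm hyc.symm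
    exact CfsgLib.ThreeTrans.braid hset (Set.mem_insert _ _) (Set.mem_insert_of_mem _ rfl) hn
  refine hne ?_
  have e1 := braid a ha haM h1
  have e2 := braid b hb hbM h2
  have e3 : (z * a * z) * (z * b * z) = a * b := by
    calc (z * a * z) * (z * b * z) = z * a * (z * z) * b * z := by group
      _ = z * (a * b) * z := by rw [R.sq hz, mul_one]; group
      _ = a * b * (z * z) := by rw [h.eq, mul_assoc]
      _ = a * b := by rw [R.sq hz, mul_one]
  rw [e1, e2] at e3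
  have e4 : z * (a * b) * z = 1 := by
    calc z * (a * b) * z = a⁻¹ * ((a * z * a) * (b * z * b)) * b⁻¹ := by group
      _ = 1 := by rw [e3]; group
  rw [h.eq, mul_assoc, R.sq hz, mul_one] at e4
  rw [eq_inv_of_mul_eq_one_left e4]
  exact inv_eq_of_mul_eq_one_left (R.sq hb)

/-- The centraliser of an involution of the subgroup is transitive on the cosets it fixes. -/
theorem exists_fuse [Finite G] (I : Inner D M) (R : Recog hF D) {u g : G} (hu : u ∈ M) (hu2 : u * u = 1)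
    (hu1 : u ≠ 1) (hg : g⁻¹ * u * g ∈ M) : ∃ w, Commute w u ∧ w⁻¹ * g ∈ M := by
  classical
  letI : Fintype (G ⧸ M) := Fintype.ofFinite _
  by_contra hcon
  push_neg at hcon
  obtain ⟨x, hx, hxM, hxu⟩ := I.fix u hu hu2 hu1
  obtain ⟨y, hy, hyM, hyu⟩ := I.fix _ hg
    (by rw [show g⁻¹ * u * g * (g⁻¹ * u * g) = g⁻¹ * (u * u) * g by group, hu2]; group)
    (fun e => hu1 (by rw [show u = g * (g⁻¹ * u * g) * g⁻¹ by group, e]; group))
  set O := Finset.univ.filter fun q : G ⧸ M => ∃ w, Commute w u ∧ (w : G ⧸ M) = q with hO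
  have stab : ∀ t : G, Commute t u → ∀ q ∈ O, t • q ∈ O := by
    intro t ht q hq
    obtain ⟨-, w, hw, rfl⟩ := Finset.mem_filter.1 hq
    exact Finset.mem_filter.2 ⟨Finset.mem_univ _, t * w, ht.mul_left hw, rfl⟩
  have fixed : ∀ t k : G, t ∈ D → t ∈ M → ∀ q : G ⧸ M, (k * t * k⁻¹) • q = q → q = (k : G ⧸ M) := by
    intro t k ht htM q hq
    induction q using QuotientGroup.induction_on with | H h => ?_
    rw [MulAction.Quotient.smul_coe, QuotientGroup.eq] at hq
    have : (h⁻¹ * k) * t * (h⁻¹ * k)⁻¹ ∈ M := by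
      have := inv_mem hq
      simpa [mul_assoc] using this
    exact QuotientGroup.eq.2 (I.mem_of_conj R ht htM this)
  have parity : ∀ (t : G) (s : Finset (G ⧸ M)), t * t = 1 → (∀ q ∈ s, t • q ∈ s) → (∀ q ∈ s, t • q ≠ q) →
      ((s.card : ℕ) : ZMod 2) = 0 := by
    intro t s ht hmem hne
    rw [Finset.card_eq_sum_ones, Nat.cast_sum]
    exact Finset.sum_involution (fun q _ => t • q) (fun _ _ => by decide) (fun q hq _ => hne q hq) hmem
      (fun q _ => by rw [smul_smul, ht, one_smul])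
  have hoM : ((1 : G) : G ⧸ M) ∈ O := Finset.mem_filter.2 ⟨Finset.mem_univ _, 1, Commute.one_left u, rfl⟩
  have hxfix : x • ((1 : G) : G ⧸ M) = ((1 : G) : G ⧸ M) := by
    rw [MulAction.Quotient.smul_coe, QuotientGroup.eq]
    simpa using hxM
  have h1 := parity x (O.erase ((1 : G) : G ⧸ M)) (R.sq hx) (fun q hq => by
    refine Finset.mem_erase.2 ⟨fun e => (Finset.mem_erase.1 hq).1 ?_, stab x hxu q (Finset.mem_erase.1 hq).2⟩
    exact (MulAction.injective x) (e.trans hxfix.symm)) (fun q hq e => (Finset.mem_erase.1 hq).1 (by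
      refine fixed x 1 hx hxM q ?_
      rwa [one_mul, inv_one, mul_one]))
  have hsq : (g * y * g⁻¹) * (g * y * g⁻¹) = 1 := by
    rw [show g * y * g⁻¹ * (g * y * g⁻¹) = g * (y * y) * g⁻¹ by group, R.sq hy]; group
  have hgu : Commute (g * y * g⁻¹) u := by
    have := commute_conj (w := g) hyu
    simpa [mul_assoc] using this
  have h2 := parity _ O hsq (stab _ hgu) (fun q hq e => by
    obtain ⟨-, w, hw, hwq⟩ := Finset.mem_filter.1 hq
    exact hcon w hw (QuotientGroup.eq.1 (hwq.trans (fixed y g hy hyM q e))))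
  rw [← Finset.card_erase_add_one hoM, Nat.cast_add, h1] at h2
  exact absurd h2 (by decide)

/-- The step along a triangle. -/
theorem triangle [Finite G] (I : Inner D M) (R : Recog hF D) {a b c g : G} (ha : a ∈ D) (haM : a ∈ M)
    (hb : b ∈ D) (hbM : b ∈ M) (hc : c ∈ D) (hcM : c ∈ M) (hab : Commute a b) (hac : Commute a c)
    (hbc : Commute b c) (h1 : a ≠ b) (h2 : a ≠ c) (h3 : b ≠ c) (hg : g ∉ M)
    (hK : g⁻¹ * (a * b) * g ∈ M) : g⁻¹ * (a * c) * g ∈ M ∧ g⁻¹ * (c * b) * g ∈ M := by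
  have hai : a⁻¹ = a := inv_eq_of_mul_eq_one_left (R.sq ha)
  have hbi : b⁻¹ = b := inv_eq_of_mul_eq_one_left (R.sq hb)
  have hu2 : a * b * (a * b) = 1 := by
    rw [show a * b * (a * b) = a * b * (b * a) by rw [hab.eq], mul_assoc a, ← mul_assoc b, R.sq hb, one_mul,
      R.sq ha]
  have hu1 : a * b ≠ 1 := fun e => h1 (by rw [eq_inv_of_mul_eq_one_left e, hbi])
  obtain ⟨w, hw, hwg⟩ := I.exists_fuse R (mul_mem haM hbM) hu2 hu1 hK
  have hwM : w ∉ M := fun h => hg (by simpa using mul_mem h hwg)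
  have move : ∀ t, w⁻¹ * t * w ∈ M → g⁻¹ * t * g ∈ M := fun t ht => by
    have := mul_mem (mul_mem (inv_mem hwg) ht) hwg
    simpa [mul_assoc] using this
  have hKw : w⁻¹ * (a * b) * w ∈ M := by
    rw [mul_assoc, ← hw.eq, inv_mul_cancel_left]; exact mul_mem haM hbM
  have huc : Commute (a * b) c := hac.mul_left hbc
  have hua : Commute (a * b) (w * a * w⁻¹) := by
    have := commute_conj (w := w) ((Commute.refl a).mul_left hab.symm)
    rwa [conj_eq_of_commute hw] at this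
  have hx2 : w * a * w⁻¹ * (w * a * w⁻¹) = 1 := by
    rw [show w * a * w⁻¹ * (w * a * w⁻¹) = w * (a * a) * w⁻¹ by group, R.sq ha]; group
  rcases dihedral (R.sq hc) hx2 with ⟨v, hv, hvc⟩ | ⟨s, hs2, hs1, hcs, hxs, hst, v, v', hvv, hcases⟩
  · exfalso
    have hvu : Commute v (a * b) := (hv _ huc hua).symm
    refine R.not_conj (q := (w⁻¹ * v)⁻¹) ha hb hc hab hac hbc h1 h2 h3
      ((hw.inv_left.mul_left hvu).inv_left) ?_
    calc (w⁻¹ * v)⁻¹ * a * ((w⁻¹ * v)⁻¹)⁻¹ = v⁻¹ * (w * a * w⁻¹) * v := by group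
      _ = c := by rw [← hvc]; group
  have hsu : Commute (a * b) s := hst _ huc hua
  obtain ⟨hvu', hvu''⟩ := hvv _ huc hua
  have hsM : s ∈ M := I.cen c hc hcM s hcs.symm
  set s' := w⁻¹ * s * w with hs'
  have hsa : Commute s' a := commute_back hxs.symm
  have hs'M : s' ∈ M := I.cen a ha haM s' hsa
  have hzD : c * s ∈ D := by
    rcases hcases with ⟨e, -⟩ | ⟨-, e⟩
    · exact e ▸ R.conj v c hc
    · exact e ▸ R.conj v' _ (R.conj w a ha)
  have hzM : c * s ∈ M := mul_mem hcM hsM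
  have hzu : Commute (c * s) (a * b) := huc.symm.mul_left hsu.symm
  have hs_eq : s = c * (c * s) := by rw [← mul_assoc, R.sq hc, one_mul]
  by_cases hza : c * s = a
  · rw [hza] at hs_eq
    have e1 : g⁻¹ * (a * c) * g ∈ M := move _ (by rwa [hac.eq, ← hs_eq])
    refine ⟨e1, move _ ?_⟩
    rw [show w⁻¹ * (c * b) * w = (w⁻¹ * (c * a) * w) * (w⁻¹ * (a * b) * w) by
      rw [show w⁻¹ * (c * a) * w * (w⁻¹ * (a * b) * w) = w⁻¹ * (c * (a * a) * b) * w by group, R.sq ha,
        mul_one]]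
    exact mul_mem (hs_eq ▸ hs'M) hKw
  by_cases hzb : c * s = b
  · rw [hzb] at hs_eq
    refine ⟨move _ ?_, move _ (by rwa [← hs_eq])⟩
    rw [show w⁻¹ * (a * c) * w = (w⁻¹ * (c * b) * w) * (w⁻¹ * (a * b) * w) by
      rw [show w⁻¹ * (c * b) * w * (w⁻¹ * (a * b) * w) = w⁻¹ * (c * (b * a) * b) * w by group,
        show b * a = a * b from hab.eq.symm, mul_assoc c, mul_assoc a, R.sq hb, mul_one, hac.eq]]
    exact mul_mem (hs_eq ▸ hs'M) hKw
  exfalso
  obtain ⟨hza', hzb'⟩ := I.commute_of_prod R ha haM hb hbM hzD hzM h1 hzu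
  rcases hcases with ⟨-, e⟩ | ⟨-, e⟩
  · set q := w⁻¹ * v' * w with hq
    have hqu : Commute q (a * b) := (hw.inv_left.mul_left hvu''.symm).mul_left hw
    have hz' : q * a * q⁻¹ = a * s' := by
      calc q * a * q⁻¹ = w⁻¹ * (v' * (w * a * w⁻¹) * v'⁻¹) * w := by rw [hq]; group
        _ = a * s' := by rw [e, hs']; group
    have hz'D : a * s' ∈ D := hz' ▸ R.conj q a ha
    have hz'a : Commute (a * s') a := (Commute.refl a).mul_left hsa
    have hne : a ≠ a * s' := fun h => hs1 (by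
      have h0 : s' = 1 := mul_left_cancel (h.symm.trans (mul_one a).symm)
      rw [show s = w * s' * w⁻¹ by rw [hs']; group, h0]; group)
    have hz'M : a * s' ∈ M := mul_mem haM hs'M
    have hs'u : Commute (a * b) s' := by
      have := commute_conj (w := w⁻¹) hsu
      rw [conj_eq_of_commute hw.inv_left, inv_inv] at this
      exact this
    have hz'u : Commute (a * s') (a * b) :=
      (((Commute.refl a).mul_left hab.symm).symm).mul_left hs'u.symm
    by_cases hb' : a * s' = b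
    · have e1 : s' = a * b := by rw [← hb', ← mul_assoc, R.sq ha, one_mul]
      have e2 : s = a * b := by
        rw [show s = w * s' * w⁻¹ by rw [hs']; group, e1]; exact conj_eq_of_commute hw
      refine R.prod_three ha hb hc hab hac hbc h1 h2 h3 ?_
      rw [huc.eq, ← e2]; exact hzD
    · exact R.not_conj ha hb hz'D hab hz'a.symm (I.commute_of_prod R ha haM hb hbM hz'D hz'M h1 hz'u).2.symm
        h1 hne (fun h => hb' h.symm) hqu hz'
  · refine R.not_conj (q := v' * w) ha hb hzD hab hza'.symm hzb'.symm h1 (fun h => hza h.symm)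
      (fun h => hzb h.symm) (hvu''.symm.mul_left hw) ?_
    rw [← e]; group

/-- An element moving a product of two commuting members inside stays inside. -/
theorem mem_of_pair [Finite G] (I : Inner D M) (R : Recog hF D) {a b g : G} (ha : a ∈ D) (haM : a ∈ M)
    (hb : b ∈ D) (hbM : b ∈ M) (hab : Commute a b) (h1 : a ≠ b) (hK : g⁻¹ * (a * b) * g ∈ M) : g ∈ M := by
  by_contra hg
  have at_a : ∀ {a b : G}, a ∈ D → a ∈ M → b ∈ D → b ∈ M → Commute a b → a ≠ b →
      g⁻¹ * (a * b) * g ∈ M → ∀ d ∈ D, d ∈ M → Commute a d → a ≠ d → g⁻¹ * (a * d) * g ∈ M := by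
    intro a b ha haM hb hbM hab h1 hK d hd hdM had hne
    by_cases hdb : d = b
    · rw [hdb]; exact hK
    by_cases hbd : Commute b d
    · exact (I.triangle R ha haM hb hbM hd hdM hab had hbd h1 hne (Ne.symm hdb) hg hK).1
    obtain ⟨P, U⟩ := R.uni a ha
    obtain ⟨v, hv⟩ := U.surj b ⟨hb, h1.symm, hab⟩
    obtain ⟨w, hw⟩ := U.surj d ⟨hd, hne.symm, had⟩
    obtain ⟨u, c, hu, huv, huw, hind⟩ := exists_third U (w := w) hv
    obtain ⟨hcD, hca, hacc⟩ := U.mem hu
    have hcM := I.cen a ha haM c hacc.symm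
    have hcb : Commute c b := (U.comm hu hv).2 huv
    have hcd : Commute c d := (U.comm hu hw).2 huw
    have hne1 : b ≠ c := fun e => hbd (e ▸ hcd)
    have hne2 : c ≠ d := fun e => hbd (e ▸ hcb).symm
    have k1 := (I.triangle R ha haM hb hbM hcD hcM hab hacc hcb.symm h1 hca.symm hne1 hg hK).1
    exact (I.triangle R ha haM hcD hcM hd hdM hacc had hcd hca.symm hne hne2 hg k1).1
  have all : ∀ x ∈ D, x ∈ M → ∀ y ∈ D, y ∈ M → Commute x y → x ≠ y → g⁻¹ * (x * y) * g ∈ M := by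
    intro x hx hxM y hy hyM hxy hne
    by_cases hxa : x = a
    · subst hxa; exact at_a ha haM hb hbM hab h1 hK y hy hyM hxy hne
    by_cases hax : Commute a x
    · have k := at_a ha haM hb hbM hab h1 hK x hx hxM hax (Ne.symm hxa)
      exact at_a hx hxM ha haM hax.symm hxa (hax.eq ▸ k) y hy hyM hxy hne
    obtain ⟨c, hc, hcM, hac, hxc⟩ := I.common a ha haM x hx hxM hax
    have hca : c ≠ a := fun e => hax (e ▸ hxc).symm
    have hcx : c ≠ x := fun e => hax (e ▸ hac)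
    have k := at_a ha haM hb hbM hab h1 hK c hc hcM hac hca.symm
    have k2 := at_a hc hcM ha haM hac.symm hca (hac.eq ▸ k) x hx hxM hxc.symm hcx
    exact at_a hx hxM hc hcM hxc hcx.symm (hxc.eq.symm ▸ k2) y hy hyM hxy hne
  let S : Set G := {t | ∃ x ∈ D, x ∈ M ∧ ∃ y ∈ D, y ∈ M ∧ Commute x y ∧ x ≠ y ∧ t = x * y}
  have hle : Subgroup.closure S ≤ M := by
    rw [Subgroup.closure_le]
    rintro _ ⟨x, -, hxM, y, -, hyM, -, -, rfl⟩
    exact mul_mem hxM hyM
  have hnorm : ∀ m ∈ M, ∀ n ∈ Subgroup.closure S, m * n * m⁻¹ ∈ Subgroup.closure S := by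
    intro m hm n hn
    refine (show Subgroup.closure S ≤ (Subgroup.closure S).comap (MulAut.conj m).toMonoidHom from ?_) hn
    rw [Subgroup.closure_le]
    rintro _ ⟨x, hx, hxM, y, hy, hyM, hxy, hne, rfl⟩
    refine Subgroup.subset_closure ⟨m * x * m⁻¹, R.conj m x hx, mul_mem (mul_mem hm hxM) (inv_mem hm),
      m * y * m⁻¹, R.conj m y hy, mul_mem (mul_mem hm hyM) (inv_mem hm), commute_conj hxy, ?_, ?_⟩
    · exact fun e => hne (mul_left_cancel (mul_right_cancel e))
    · show m * (x * y) * m⁻¹ = _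
      group
  have hnb : Subgroup.closure S ≠ ⊥ := by
    intro e
    have hm : a * b ∈ Subgroup.closure S := Subgroup.subset_closure ⟨a, ha, haM, b, hb, hbM, hab, h1, rfl⟩
    rw [e, Subgroup.mem_bot] at hm
    exact h1 (by rw [eq_inv_of_mul_eq_one_left hm, inv_eq_of_mul_eq_one_left (R.sq hb)])
  have hK' : M ≤ M.comap (MulAut.conj g⁻¹).toMonoidHom := by
    refine (I.simple _ hle hnorm hnb).trans ?_
    rw [Subgroup.closure_le]
    rintro _ ⟨x, hx, hxM, y, hy, hyM, hxy, hne, rfl⟩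
    show g⁻¹ * (x * y) * g⁻¹⁻¹ ∈ M
    rw [inv_inv]
    exact all x hx hxM y hy hyM hxy hne
  have := hK' haM
  simp only [Subgroup.mem_comap, MulEquiv.coe_toMonoidHom, MulAut.conj_apply, inv_inv] at this
  exact hg (I.mem_of_conj' R ha haM this)

/-- A member inside and one outside are conjugate in the group they generate. -/
theorem cross_conj [Finite G] (I : Inner D M) (R : Recog hF D) {x y : G} (hx : x ∈ D) (hxM : x ∈ M)
    (hy : y ∈ D) (hyM : y ∉ M) :
    ∃ v, (∀ t, Commute t x → Commute t y → Commute t v) ∧ v * x * v⁻¹ = y := by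
  rcases dihedral (R.sq hx) (R.sq hy) with h | ⟨s, hs2, hs1, hxs, hys, -, v, v', -, hcases⟩
  · exact h
  exfalso
  have hz : x * s ∈ D := by
    rcases hcases with ⟨e, -⟩ | ⟨-, e⟩
    · exact e ▸ R.conj v x hx
    · exact e ▸ R.conj v' y hy
  have hzM : x * s ∈ M := mul_mem hxM (I.cen x hx hxM s hxs.symm)
  have hxz : Commute x (x * s) := (Commute.refl x).mul_right hxs
  have hne : x ≠ x * s := fun h => hs1 (mul_left_cancel (h.symm.trans (mul_one x).symm))
  obtain ⟨g, rfl⟩ := I.cls x hx y hy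
  have hsM : g⁻¹ * s * g ∈ M := I.cen x hx hxM _ (commute_back hys.symm)
  refine hyM ?_
  have hg := I.mem_of_pair R hx hxM hz hzM hxz hne (g := g)
    (by rwa [← mul_assoc x, R.sq hx, one_mul])
  exact mul_mem (mul_mem hg hxM) (inv_mem hg)

/-- The subgroup is everything. -/
theorem eq_top [Finite G] (I : Inner D M) (R : Recog hF D) {a : G} (ha : a ∈ D) (haM : a ∈ M) : M = ⊤ := by
  rw [Subgroup.eq_top_iff']
  intro g
  by_contra hg
  obtain ⟨b₀, -, -, b, hb⟩ := R.some_pair a ha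
  obtain ⟨⟨hbD, hba, hab⟩, -⟩ := hb
  have hbM := I.cen a ha haM b hab.symm
  have hcomm_pair : ∀ t, Commute t (a * b) → t ∈ M := fun t ht =>
    I.mem_of_pair R ha haM hbD hbM hab hba.symm (by
      rw [mul_assoc, ← ht.eq, inv_mul_cancel_left]; exact mul_mem haM hbM)
  have hu2 : a * b * (a * b) = 1 := by
    rw [show a * b * (a * b) = a * b * (b * a) by rw [hab.eq], mul_assoc a, ← mul_assoc b, R.sq hbD, one_mul,
      R.sq ha]
  have he2 : g * (a * b) * g⁻¹ * (g * (a * b) * g⁻¹) = 1 := by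
    rw [show g * (a * b) * g⁻¹ * (g * (a * b) * g⁻¹) = g * (a * b * (a * b)) * g⁻¹ by group, hu2]; group
  rcases dihedral (R.sq ha) he2 with ⟨v, -, hv⟩ | ⟨s, hs2, hs1, has, hes, -, v, v', -, hcases⟩
  · refine R.prod_two ha hbD hba.symm hab ?_
    have := R.conj (g⁻¹ * v) a ha
    rwa [show g⁻¹ * v * a * (g⁻¹ * v)⁻¹ = a * b by
      calc g⁻¹ * v * a * (g⁻¹ * v)⁻¹ = g⁻¹ * (v * a * v⁻¹) * g := by group
        _ = a * b := by rw [hv]; group] at this
  have hsM : s ∈ M := I.cen a ha haM s has.symm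
  have hsg : g⁻¹ * s * g ∈ M := hcomm_pair _ (commute_back hes.symm)
  have has' : Commute a (a * s) := (Commute.refl a).mul_right has
  rcases hcases with ⟨e, -⟩ | ⟨-, e⟩
  · have hz : a * s ∈ D := e ▸ R.conj v a ha
    refine hg (I.mem_of_pair R ha haM hz (mul_mem haM hsM) has'
      (fun h => hs1 (mul_left_cancel (h.symm.trans (mul_one a).symm))) ?_)
    rwa [← mul_assoc a, R.sq ha, one_mul]
  set k := v' * g with hk
  have hke : k * (a * b) * k⁻¹ = a * s := by rw [← e, hk]; group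
  have hkM : k ∈ M := I.mem_of_conj' R ha haM (hcomm_pair _ (commute_back (hke ▸ has')))
  set b₁ := k * a * k⁻¹ with hb₁
  set c₁ := k * b * k⁻¹ with hc₁
  have hb₁D : b₁ ∈ D := R.conj k a ha
  have hc₁D : c₁ ∈ D := R.conj k b hbD
  have hb₁M : b₁ ∈ M := mul_mem (mul_mem hkM haM) (inv_mem hkM)
  have hc₁M : c₁ ∈ M := mul_mem (mul_mem hkM hbM) (inv_mem hkM)
  have hbc : Commute b₁ c₁ := commute_conj hab
  have hbc' : b₁ ≠ c₁ := fun h => hba (mul_left_cancel (mul_right_cancel h)).symm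
  have hprod : a * s = b₁ * c₁ := by rw [← hke, hb₁, hc₁]; group
  have hseq : s = a * (b₁ * c₁) := by rw [← hprod, ← mul_assoc, R.sq ha, one_mul]
  obtain ⟨hab₁, hac₁⟩ := I.commute_of_prod R hb₁D hb₁M hc₁D hc₁M ha haM hbc' (hprod ▸ has')
  have nmem : ∀ z ∈ D, z ∈ M → s ≠ z := fun z hz hzM h => hg (I.mem_of_conj' R hz hzM (h ▸ hsg))
  have hne1 : b₁ ≠ a := fun h => nmem c₁ hc₁D hc₁M (by rw [hseq, h, ← mul_assoc, R.sq ha, one_mul])
  have hne2 : c₁ ≠ a := fun h => nmem b₁ hb₁D hb₁M (by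
    rw [hseq, h, hab₁.symm.eq, ← mul_assoc, R.sq ha, one_mul])
  obtain ⟨P, U⟩ := R.uni a ha
  obtain ⟨vb, hvb⟩ := U.surj b₁ ⟨hb₁D, hne1, hab₁⟩
  obtain ⟨vc, hvc⟩ := U.surj c₁ ⟨hc₁D, hne2, hac₁⟩
  obtain ⟨up, p, hup, hpb, hpc, hind⟩ := exists_third U (w := vc) hvb
  obtain ⟨hpD, -, hap⟩ := U.mem hup
  have hpM := I.cen a ha haM p hap.symm
  have hpb' : Commute p b₁ := (U.comm hup hvb).2 hpb
  have hpc' : Commute p c₁ := (U.comm hup hvc).2 hpc
  have hps : Commute p s := by rw [hseq]; exact hap.symm.mul_right (hpb'.mul_right hpc')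
  obtain ⟨y, hy, hyM, hys⟩ := I.fix _ hsg
    (by rw [show g⁻¹ * s * g * (g⁻¹ * s * g) = g⁻¹ * (s * s) * g by group, hs2]; group)
    (fun h => hs1 (by rw [show s = g * (g⁻¹ * s * g) * g⁻¹ by group, h]; group))
  have hx' : g * y * g⁻¹ ∉ M := fun h => hg (I.mem_of_conj R hy hyM h)
  have hx's : Commute s (g * y * g⁻¹) := by
    have := commute_conj (w := g) hys.symm
    simpa [mul_assoc] using this
  obtain ⟨v₁, hv₁, e₁⟩ := I.cross_conj R ha haM (R.conj g y hy) hx'
  obtain ⟨v₂, hv₂, e₂⟩ := I.cross_conj R hpD hpM (R.conj g y hy) hx'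
  set q := v₂⁻¹ * v₁ with hq
  have hqa : q * a * q⁻¹ = p := by
    calc q * a * q⁻¹ = v₂⁻¹ * (v₁ * a * v₁⁻¹) * v₂ := by rw [hq]; group
      _ = p := by rw [e₁, ← e₂]; group
  have hqs : Commute q s :=
    ((hv₂ s hps.symm hx's).symm.inv_left).mul_left (hv₁ s has.symm hx's).symm
  have hqM : q ∈ M := I.mem_of_conj R ha haM (by rw [hqa]; exact hpM)
  set d := q * b₁ * q⁻¹ with hd
  set e' := q * c₁ * q⁻¹ with he'
  have hdD : d ∈ D := R.conj q b₁ hb₁D
  have heD : e' ∈ D := R.conj q c₁ hc₁D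
  have hdM : d ∈ M := mul_mem (mul_mem hqM hb₁M) (inv_mem hqM)
  have heM : e' ∈ M := mul_mem (mul_mem hqM hc₁M) (inv_mem hqM)
  have hde : Commute d e' := commute_conj hbc
  have hde' : d ≠ e' := fun h => hbc' (mul_left_cancel (mul_right_cancel h))
  have hpd : Commute p d := hqa ▸ commute_conj hab₁
  have hpe : Commute p e' := hqa ▸ commute_conj hac₁
  have hprod' : p * s = d * e' := by
    rw [← hqa, hd, he']
    conv_lhs => rw [← conj_eq_of_commute hqs]
    rw [show q * a * q⁻¹ * (q * s * q⁻¹) = q * (a * s) * q⁻¹ by group, hprod]; group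
  have hsplit : ∀ {z}, z ∈ D → z ∈ M → Commute z p → Commute z s → Commute z d ∧ Commute z e' :=
    fun {z} hz hzM h h' => I.commute_of_prod R hdD hdM heD heM hz hzM hde' (hprod' ▸ h.mul_right h')
  obtain ⟨had, hae⟩ := hsplit ha haM hap has
  have hb₁s : Commute b₁ s := by rw [hseq]; exact hab₁.symm.mul_right ((Commute.refl b₁).mul_right hbc)
  have hc₁s : Commute c₁ s := by
    rw [hseq]; exact hac₁.symm.mul_right (hbc.symm.mul_right (Commute.refl c₁))
  obtain ⟨hbd, hbe⟩ := hsplit hb₁D hb₁M hpb'.symm hb₁s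
  obtain ⟨hcd, hce⟩ := hsplit hc₁D hc₁M hpc'.symm hc₁s
  refine no_five U (fun x => R.sq) hvb hvc hup ?_ hdD heD ?_ (Or.inl ?_)
  · rw [Fintype.linearIndependent_iff]
    intro f hf
    simp only [Fin.sum_univ_three, Matrix.cons_val_zero, Matrix.cons_val_one, Matrix.cons_val] at hf
    have h2 : f 2 = 0 := by
      by_contra h2
      refine hind (-((f 2)⁻¹ * f 0)) (-((f 2)⁻¹ * f 1)) ?_
      have : f 2 • up = -(f 0 • vb + f 1 • vc) := eq_neg_of_add_eq_zero_right hf
      rw [← inv_smul_smul₀ h2 up, this, smul_neg, smul_add, smul_smul, smul_smul, neg_smul, neg_smul, neg_add]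
    rw [h2, zero_smul, add_zero] at hf
    have h01 := Fintype.linearIndependent_iff.1 (Uni.li_two U hvb hvc hbc') ![f 0, f 1]
      (by simpa [Fin.sum_univ_two] using hf)
    intro i
    fin_cases i
    exacts [h01 0, h01 1, h2]
  · intro x hx y hy
    simp only [List.mem_cons, List.not_mem_nil, or_false] at hx hy
    rcases hx with rfl | rfl | rfl | rfl | rfl | rfl <;> rcases hy with rfl | rfl | rfl | rfl | rfl | rfl <;>
      first
      | exact Commute.refl _ | assumption | exact Commute.symm (by assumption)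
  · rw [← hprod', ← mul_assoc, R.sq hpD, one_mul]; exact hseq

end Inner

end CfsgLib.FischerRecog22
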