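import Cfsg.Agent.Lib.U6Cover.Transpositions
import Cfsg.Agent.Lib.FischerRecog22.Base
import Cfsg.Agent.Lib.FischerType.Types

set_option autoImplicit false

/-!
The conjugates of the involution of the double cover of `PSU(6, 2)`: their links are unitary, near members
have product of order at most three, and some pair of non-commuting members has a common neighbour.
-/

namespace CfsgLib.FischerRecog22

open Subgroup CfsgLib.Classical.Herm HermSpace CfsgLib.UnitaryTransv CfsgLib.U6Cover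
open CfsgLib.ThreeTrans (link commute_conj_iff' conj_self_of_commute)
open CfsgLib.FischerFi22 (Uni)
open scoped commutatorElement

attribute [-simp] stdHerm_h

universe u

variable {G : Type u} [Group G] {F : Type} [Field F] [Fintype F] {hF : Fintype.card F = 2 ^ 2}

/-- Conjugation maps links to links. -/
theorem link_conj_mem' {D : Set G} (hD : ∀ g : G, ∀ x ∈ D, g * x * g⁻¹ ∈ D) (g : G) {a x : G}
    (hx : x ∈ link D a) : g * x * g⁻¹ ∈ link D (g * a * g⁻¹) :=
  ⟨hD g x hx.1, fun h => hx.2.1 (mul_left_cancel (mul_right_cancel h)),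
    (commute_conj_iff' g a x).2 hx.2.2⟩

theorem closure_link_conj_mem' {D : Set G} (hD : ∀ g : G, ∀ x ∈ D, g * x * g⁻¹ ∈ D) (g : G) {a z : G}
    (hz : z ∈ closure (link D a)) : g * z * g⁻¹ ∈ closure (link D (g * a * g⁻¹)) := by
  have h1 : g * z * g⁻¹ ∈ (closure (link D a)).map (MulAut.conj g).toMonoidHom := ⟨z, hz, rfl⟩
  rw [MonoidHom.map_closure] at h1
  refine closure_mono ?_ h1
  rintro _ ⟨x, hx, rfl⟩
  exact link_conj_mem' hD g hx

/-- Unitary links are transported by conjugation. -/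
theorem uni_transport {D : Set G} (hD : ∀ g : G, ∀ x ∈ D, g * x * g⁻¹ ∈ D) {a : G}
    {P : (Fin 6 → F) → G → Prop} (U : Uni hF D a P) (g : G) :
    Uni hF D (g * a * g⁻¹) fun v x => P v (g⁻¹ * x * g) := by
  have hback : ∀ x, g * (g⁻¹ * x * g) * g⁻¹ = x := fun x => by group
  have hfwd : ∀ x, g⁻¹ * (g * x * g⁻¹) * g = x := fun x => by group
  have hdown : ∀ {z}, z ∈ closure (link D (g * a * g⁻¹)) → g⁻¹ * z * g ∈ closure (link D a) := by
    intro z hz
    have h := closure_link_conj_mem' hD g⁻¹ hz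
    rwa [inv_inv, hfwd a] at h
  have hlink : ∀ {x}, x ∈ link D (g * a * g⁻¹) → g⁻¹ * x * g ∈ link D a := by
    intro x hx
    have h := link_conj_mem' hD g⁻¹ hx
    rwa [inv_inv, hfwd a] at h
  refine
    { base := hD g _ U.base
      self_mem := closure_link_conj_mem' hD g U.self_mem
      mem := ?_
      iso := fun h => U.iso h
      ne := fun h => U.ne h
      surj := fun x hx => U.surj _ (hlink hx)
      exists_pt := ?_
      smul := fun h hc => U.smul h hc
      inj := ?_
      uniq := fun h h' => U.uniq h h'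
      comm := ?_
      act := ?_
      refl := ?_
      kernel := ?_ }
  · intro v x h
    have := link_conj_mem' hD g (U.mem h)
    rwa [hback] at this
  · intro v hv hv0
    obtain ⟨x, hx⟩ := U.exists_pt v hv hv0
    exact ⟨g * x * g⁻¹, by show P v _; rw [hfwd]; exact hx⟩
  · intro v x y h h'
    have := U.inj h h'
    exact mul_left_cancel (mul_right_cancel this)
  · intro v w x y h h'
    rw [← U.comm h h']
    have := commute_conj_iff' g⁻¹ x y
    rw [inv_inv] at this
    exact this.symm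
  · intro z hz
    obtain ⟨k, hk⟩ := U.act _ (hdown hz)
    refine ⟨k, fun {v x} h => ?_⟩
    show P (k.1 v) (g⁻¹ * (z * x * z⁻¹) * g)
    convert hk h using 1
    group
  · intro v w x y h h'
    show P _ (g⁻¹ * (y * x * y⁻¹) * g)
    convert U.refl h h' using 1
    group
  · intro z hz hall
    have hin : ∀ x ∈ link D a, Commute (g⁻¹ * z * g) x := fun x hx => by
      have h2 := hall _ (link_conj_mem' hD g hx)
      have h3 := (commute_conj_iff' g⁻¹ z (g * x * g⁻¹)).2 h2
      rwa [inv_inv, hfwd] at h3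
    rcases U.kernel _ (hdown hz) hin with h1 | h1
    · left; rw [← hback z, h1]; group
    · right; rw [← hback z, h1]

/-- Near members of a class with unitary links commute or braid. -/
theorem near_of_uni {D : Set G} (hsq : ∀ x ∈ D, x * x = 1) {a x y : G}
    {P : (Fin 6 → F) → G → Prop} (U : Uni hF D a P) (hx : x ∈ D) (hy : y ∈ D)
    (hax : Commute a x) (hay : Commute a y) : (x * y) ^ 2 = 1 ∨ (x * y) ^ 3 = 1 := by
  have hcomm : Commute x y → (x * y) ^ 2 = 1 := fun h => by
    rw [h.mul_pow, pow_two, pow_two, hsq x hx, hsq y hy, one_mul]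
  by_cases hxa : x = a
  · exact Or.inl (hcomm (hxa ▸ hay))
  by_cases hya : y = a
  · exact Or.inl (hcomm (hya ▸ hax.symm))
  obtain ⟨v, hv⟩ := U.surj x ⟨hx, hxa, hax⟩
  obtain ⟨w, hw⟩ := U.surj y ⟨hy, hya, hay⟩
  by_cases h0 : (stdHerm hF 6).h v w = 0
  · exact Or.inl (hcomm ((U.comm hv hw).2 h0))
  right
  have hwv : (stdHerm hF 6).h w v ≠ 0 := fun h => h0 ((stdHerm hF 6).h_comm_zero h)
  have hmul : (stdHerm hF 6).h w v * (stdHerm hF 6).h v w = 1 := by
    rw [show (stdHerm hF 6).h v w = (stdHerm hF 6).conj ((stdHerm hF 6).h w v) from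
      ((stdHerm hF 6).symm' w v).symm, stdHerm_conj]
    linear_combination CfsgLib.UnitaryTransv.pow_three hF hwv
  have h1 := U.smul (U.refl hv hw) hwv
  rw [smul_add, smul_smul, hmul, one_smul, add_comm] at h1
  have e := U.inj (U.refl hw hv) h1
  have ix : x⁻¹ = x := inv_eq_of_mul_eq_one_right (hsq x hx)
  have iy : y⁻¹ = y := inv_eq_of_mul_eq_one_right (hsq y hy)
  rw [ix, iy] at e
  calc (x * y) ^ 3 = x * y * x * (y * x * y) := by simp [pow_succ, mul_assoc]
    _ = y * x * (y * y) * x * y := by rw [e]; simp [mul_assoc]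
    _ = 1 := by rw [hsq y hy, mul_one, mul_assoc y x x, hsq x hx, mul_one, hsq y hy]

section ctx

set_option linter.unusedSectionVars false

variable [Finite G] (T : Ctx hF G)

theorem class_conj : ∀ g : G, ∀ x ∈ conjugatesOf T.d, g * x * g⁻¹ ∈ conjugatesOf T.d :=
  fun g _ hx => IsConj.trans hx (isConj_iff.2 ⟨g, rfl⟩)

/-- The conjugates of the involution are involutions. -/
theorem invol_of_ctx : ∀ x ∈ conjugatesOf T.d, orderOf x = 2 := by
  intro x hx
  obtain ⟨g, rfl⟩ := isConj_iff.1 (show IsConj T.d x from hx)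
  rw [show g * T.d * g⁻¹ = MulAut.conj g T.d from rfl, MulEquiv.orderOf_eq]
  exact orderOf_eq_prime (by rw [pow_two, T.d_sq]) T.d_ne

theorem mul_self_of_ctx : ∀ x ∈ conjugatesOf T.d, x * x = 1 := fun x hx => by
  rw [← pow_two, ← invol_of_ctx T x hx, pow_orderOf_eq_one]

theorem mem_cent_of_link {x : G} (hx : x ∈ link (conjugatesOf T.d) T.d) :
    x ∈ centralizer ({T.d} : Set G) :=
  mem_centralizer_singleton_iff.2 hx.2.2.eq.symm

theorem commute_of_mem_cent (c : ↥(centralizer ({T.d} : Set G))) : Commute (c : G) T.d :=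
  mem_centralizer_singleton_iff.1 c.2

theorem conj_mem_link_base (c : ↥(centralizer ({T.d} : Set G))) {x : G}
    (hx : x ∈ link (conjugatesOf T.d) T.d) :
    (c : G) * x * (c : G)⁻¹ ∈ link (conjugatesOf T.d) T.d := by
  have := link_conj_mem' (class_conj T) (c : G) hx
  rwa [conj_self_of_commute (commute_of_mem_cent T c)] at this

theorem theta_ne_one {x : G} (hx : x ∈ link (conjugatesOf T.d) T.d) :
    T.D.θ ⟨x, mem_cent_of_link T hx⟩ ≠ 1 := fun h => by
  rcases (T.D.ker _).1 h with e | e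
  · have e' : x = 1 := congrArg Subtype.val e
    exact T.d_ne (isConj_one_left.1 (e' ▸ (show IsConj T.d x from hx.1)))
  · exact hx.2.1 ((congrArg Subtype.val e).trans T.hz)

theorem tv_vec_ne_zero {x : G} (hx : x ∈ link (conjugatesOf T.d) T.d) {v : Fin 6 → F}
    {hv : (stdHerm hF 6).h v v = 0} (h : T.D.L ⟨x, mem_cent_of_link T hx⟩ (tv hF v hv)) :
    v ≠ 0 := by
  intro h0
  have e : tv hF v hv = 1 := unit_ext fun y => by rw [tv_apply, h0, smul_zero, add_zero, one_apply]
  rw [e] at h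
  refine theta_ne_one T hx ((T.D.ker _).2 ?_)
  rcases T.D.L_one.eq_or h with e | e
  · exact Or.inl e
  · exact Or.inr (by rw [e, one_mul])

/-- Only one of the two lifts of a transvection is a conjugate. -/
theorem lift_unique {v : Fin 6 → F} (hv : (stdHerm hF 6).h v v = 0)
    {c c' : ↥(centralizer ({T.d} : Set G))} (hc : IsConj T.d (c : G)) (hc' : IsConj T.d (c' : G))
    (h : T.D.L c (tv hF v hv)) (h' : T.D.L c' (tv hF v hv)) : c' = c := by
  rcases h.eq_or h' with e | e
  · exact e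
  exfalso
  obtain ⟨ω, hω⟩ := exists_omega hF
  obtain ⟨Q, hQ⟩ := exists_frame_fixed hF (tv hF v hv) (tv_sq hF v hv)
  obtain ⟨n, hn, -, he⟩ := T.D.exists_code Q hω (show c ∈ T.D.A Q from ⟨_, hQ, h⟩)
  have h1 := T.chi_eq_one.2 hc
  have h2 := T.chi_eq_one.2 hc'
  have e' : (c' : G) = (c : G) * T.d := by rw [e, Subgroup.coe_mul, T.hz]
  have hcnt := T.cnt_eq Q hω n hn
  have hle : sel 1 0 0 n ≤ 1 := by
    unfold sel
    cases Nat.beq n 0 <;> cases Nat.beq (rank4 n) 1 <;> cases Nat.beq (rank4 n) 2 <;> simp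
  unfold Ctx.cnt at hcnt
  rcases he with he | he
  · have e1 : (c : G) = T.av Q ω n := congrArg Subtype.val he
    rw [← e1, ← e', h1, h2] at hcnt
    omega
  · have e1 : (c : G) = T.av Q ω n * T.d := by rw [he, Subgroup.coe_mul, T.hz]; rfl
    have e2 : (c' : G) = T.av Q ω n := by rw [e', e1, mul_assoc, T.d_sq, mul_one]
    rw [← e1, ← e2, h1, h2] at hcnt
    omega

/-- The conjugate `x` lies over the transvection with centre `v`. -/
def ctxPt (v : Fin 6 → F) (x : G) : Prop :=
  x ∈ link (conjugatesOf T.d) T.d ∧ v ≠ 0 ∧ ∃ hv : (stdHerm hF 6).h v v = 0,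
    ∃ c : ↥(centralizer ({T.d} : Set G)), (c : G) = x ∧ T.D.L c (tv hF v hv)

theorem exists_ctxPt_of_mem {x : G} (hx : x ∈ link (conjugatesOf T.d) T.d) :
    ∃ v, ctxPt T v x := by
  obtain ⟨v, hv, hL⟩ := T.conj_tv (c := ⟨x, mem_cent_of_link T hx⟩) hx.1 hx.2.1
  exact ⟨v, hx, tv_vec_ne_zero T hx hL, hv, _, rfl, hL⟩

theorem ctxPt_conj {c : ↥(centralizer ({T.d} : Set G))} {k : Unit' (stdHerm hF 6)}
    (hk : T.D.L c k) {v : Fin 6 → F} {x : G} (h : ctxPt T v x) :
    ctxPt T (k.1 v) ((c : G) * x * (c : G)⁻¹) := by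
  obtain ⟨hx, hv0, hv, e, rfl, hL⟩ := h
  refine ⟨conj_mem_link_base T c hx, unit_ne_zero _ hv0, by rw [unit_h]; exact hv,
    c * e * c⁻¹, rfl, ?_⟩
  have := hk.conj hL
  rwa [tv_conj] at this

theorem exists_link_member : ∃ x, x ∈ link (conjugatesOf T.d) T.d := by
  obtain ⟨g, hg, hne⟩ := T.nwc
  exact ⟨_, isConj_iff.2 ⟨g, rfl⟩, hne, (commute_of_mem_cent T ⟨_, hg⟩).symm⟩

theorem exists_ctxPt {v : Fin 6 → F} (hv : (stdHerm hF 6).h v v = 0) (hv0 : v ≠ 0) :
    ∃ x, ctxPt T v x := by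
  obtain ⟨x, hx⟩ := exists_link_member T
  obtain ⟨v₀, hp⟩ := exists_ctxPt_of_mem T hx
  have hp' := hp
  obtain ⟨-, hv00, hv₀, -⟩ := hp'
  obtain ⟨g, hg, hgv⟩ := rootGen_transitive (big_std hF (n := 6) (by norm_num)) hv₀ hv00 hv hv0
  obtain ⟨c, hc⟩ := T.D.exists_lift (MonoidHom.mem_ker.1 (rootGen_le_ker_det hg))
  exact ⟨_, hgv ▸ ctxPt_conj T hc hp⟩

theorem simple_psu (hF : Fintype.card F = 2 ^ 2) : IsSimpleGroup (Cfsg.PSU 6 F 2) :=
  CfsgLib.FischerType.isSimpleGroup_of_psu (hF.trans (by norm_num)) (MulEquiv.refl _)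

/-- The link generates the centraliser. -/
theorem closure_link_eq :
    closure (link (conjugatesOf T.d) T.d) = centralizer ({T.d} : Set G) := by
  refine le_antisymm CfsgLib.FischerUnique.closure_link_le_centralizer ?_
  rw [← subgroupOf_eq_top]
  set N := (closure (link (conjugatesOf T.d) T.d)).subgroupOf (centralizer ({T.d} : Set G))
  have hN : N.Normal := ⟨fun n hn g => by
    rw [mem_subgroupOf] at hn ⊢
    have := closure_link_conj_mem' (class_conj T) (g : G) hn
    rw [conj_self_of_commute (commute_of_mem_cent T g)] at this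
    exact this⟩
  have := simple_psu hF
  have hmap : N.map T.D.θ = ⊤ := by
    rcases (hN.map T.D.θ T.D.surj).eq_bot_or_eq_top with h | h
    · exfalso
      obtain ⟨x, hx⟩ := exists_link_member T
      refine theta_ne_one T hx ?_
      have hm : T.D.θ ⟨x, mem_cent_of_link T hx⟩ ∈ N.map T.D.θ :=
        ⟨_, mem_subgroupOf.2 (subset_closure hx), rfl⟩
      rwa [h, mem_bot] at hm
    · exact h
  have hperf := T.perfect.commutator_eq_top
  refine eq_top_iff.2 (hperf ▸ ?_)
  rw [commutator_def, commutator_le]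
  intro a _ b _
  obtain ⟨n, hn, hnθ⟩ := show T.D.θ a ∈ N.map T.D.θ by rw [hmap]; trivial
  have hker : n⁻¹ * a = 1 ∨ n⁻¹ * a = T.D.z :=
    (T.D.ker _).1 (by rw [map_mul, map_inv, hnθ, inv_mul_cancel])
  have hw : Commute (n⁻¹ * a) b := by
    rcases hker with e | e <;> rw [e]
    · exact Commute.one_left b
    · exact T.D.central b
  have e : ⁅a, b⁆ = n * (b * n⁻¹ * b⁻¹) := by
    calc ⁅a, b⁆ = n * ((n⁻¹ * a) * b * (n⁻¹ * a)⁻¹) * n⁻¹ * b⁻¹ := by
          rw [commutatorElement_def]; group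
      _ = _ := by rw [conj_self_of_commute hw]; group
  rw [e]
  exact mul_mem hn (hN.conj_mem _ (inv_mem hn) b)

/-- An element of the centraliser commuting with the link is trivial or the involution. -/
theorem kernel_base {z : G} (hz : z ∈ centralizer ({T.d} : Set G))
    (h : ∀ x ∈ link (conjugatesOf T.d) T.d, Commute z x) : z = 1 ∨ z = T.d := by
  have hle : centralizer ({T.d} : Set G) ≤ centralizer ({z} : Set G) := by
    rw [← closure_link_eq T]
    exact (closure_le _).2 fun x hx => mem_centralizer_singleton_iff.2 (h x hx).eq.symm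
  have hc : T.D.θ ⟨z, hz⟩ ∈ center (Cfsg.PSU 6 F 2) := mem_center_iff.2 fun q => by
    obtain ⟨y, rfl⟩ := T.D.surj q
    rw [← map_mul, ← map_mul]
    exact congrArg _ (Subtype.ext (mem_centralizer_singleton_iff.1 (hle y.2)))
  have := simple_psu hF
  rcases (inferInstance : (center (Cfsg.PSU 6 F 2)).Normal).eq_bot_or_eq_top with e | e
  · rw [e, mem_bot] at hc
    rcases (T.D.ker _).1 hc with e' | e'
    · exact Or.inl (congrArg Subtype.val e')
    · exact Or.inr ((congrArg Subtype.val e').trans T.hz)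
  · exfalso
    obtain ⟨x, hx⟩ := exists_link_member T
    refine theta_ne_one T hx ?_
    have hker : (commutator ↥(centralizer ({T.d} : Set G))) ≤ T.D.θ.ker := by
      rw [commutator_def, commutator_le]
      intro a _ b _
      rw [MonoidHom.mem_ker, map_commutatorElement, commutatorElement_eq_one_iff_mul_comm]
      exact (mem_center_iff.1 (e ▸ mem_top (T.D.θ a)) (T.D.θ b)).symm
    rw [T.perfect.commutator_eq_top] at hker
    exact hker (mem_top _)

theorem uni_base : Uni hF (conjugatesOf T.d) T.d (ctxPt T) := by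
  refine
    { base := IsConj.refl _
      self_mem := by rw [closure_link_eq T]; exact mem_centralizer_singleton_iff.2 rfl
      mem := fun h => h.1
      iso := fun h => h.2.2.1
      ne := fun h => h.2.1
      surj := fun x hx => exists_ctxPt_of_mem T hx
      exists_pt := fun v hv hv0 => exists_ctxPt T hv hv0
      smul := ?_
      inj := ?_
      uniq := ?_
      comm := ?_
      act := ?_
      refl := ?_
      kernel := fun z hz h => kernel_base T ((closure_link_eq T).le hz) h }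
  · rintro v x c ⟨hx, hv0, hv, e, he, hL⟩ hc
    have hcv : (stdHerm hF 6).h (c • v) (c • v) = 0 := by
      rw [(stdHerm hF 6).smul_left, (stdHerm hF 6).smul_right, hv, mul_zero, mul_zero]
    exact ⟨hx, smul_ne_zero hc hv0, hcv, e, he, by rw [tv_smul hF hc hv hcv rfl]; exact hL⟩
  · rintro v x y ⟨hx, -, hv, e, rfl, hL⟩ ⟨hy, -, _, e', rfl, hL'⟩
    exact congrArg Subtype.val (lift_unique T hv hx.1 hy.1 hL hL').symm
  · rintro v w x ⟨hx, hv0, hv, e, rfl, hL⟩ ⟨_, hw0, hw, e', he', hL'⟩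
    obtain rfl : e' = e := Subtype.ext he'
    have := hL.eq_of_invol hL' (tv_sq hF v hv) (tv_sq hF w hw)
    exact CfsgLib.FischerFi22.smul_of_ptv_eq hv hv0 hw hw0
      (congrArg (CfsgLib.FischerType.U6.proj hF) (Subtype.ext this.symm))
  · rintro v w x y ⟨hx, hv0, hv, e, rfl, hL⟩ ⟨hy, hw0, hw, e', rfl, hL'⟩
    constructor
    · intro hxy
      exact (stdHerm hF 6).h_comm_zero (CfsgLib.FischerType.U6.orth_of_tv_commute hF hv hw hw0
        (T.D.commute_invol hL hL' (tv_sq hF v hv) (tv_sq hF w hw) (Subtype.ext hxy.eq)))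
    · intro h0
      exact congrArg Subtype.val (T.D.commute_tv hv hw h0 hL hL').eq
  · intro z hz
    rw [closure_link_eq T] at hz
    obtain ⟨k, hk⟩ := T.D.exists_L ⟨z, hz⟩
    exact ⟨k, fun {v x} h => ctxPt_conj T hk h⟩
  · rintro v w x y h ⟨-, -, hw, e, rfl, hL⟩
    have := ctxPt_conj T hL h
    rwa [tv_apply] at this

/-- Every conjugate has a unitary link. -/
theorem uni_of_ctx : ∀ x ∈ conjugatesOf T.d, ∃ P, Uni hF (conjugatesOf T.d) x P := by
  intro x hx
  obtain ⟨g, rfl⟩ := isConj_iff.1 (show IsConj T.d x from hx)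
  exact ⟨_, uni_transport (class_conj T) (uni_base T) g⟩

/-- Near conjugates commute or braid. -/
theorem near_of_ctx {a x y : G} (hx : x ∈ conjugatesOf T.d) (hy : y ∈ conjugatesOf T.d)
    (ha : a ∈ conjugatesOf T.d) (hax : Commute a x) (hay : Commute a y) :
    (x * y) ^ 2 = 1 ∨ (x * y) ^ 3 = 1 := by
  obtain ⟨P, U⟩ := uni_of_ctx T a ha
  exact near_of_uni (mul_self_of_ctx T) U hx hy hax hay

/-- The centraliser of a conjugate is transitive on its link. -/
theorem link_conj_of_ctx : ∀ a ∈ conjugatesOf T.d, ∀ x ∈ link (conjugatesOf T.d) a,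
    ∀ y ∈ link (conjugatesOf T.d) a, ∃ c, Commute c a ∧ c * x * c⁻¹ = y := by
  intro a ha x hx y hy
  obtain ⟨g, rfl⟩ := isConj_iff.1 (show IsConj T.d a from ha)
  have hdn : ∀ {t}, t ∈ link (conjugatesOf T.d) (g * T.d * g⁻¹) →
      g⁻¹ * t * g ∈ link (conjugatesOf T.d) T.d := fun {t} ht => by
    have h := link_conj_mem' (class_conj T) g⁻¹ ht
    rw [inv_inv, show g⁻¹ * (g * T.d * g⁻¹) * g = T.d by group] at h
    exact h
  obtain ⟨v, hv⟩ := exists_ctxPt_of_mem T (hdn hx)
  obtain ⟨w, hw⟩ := exists_ctxPt_of_mem T (hdn hy)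
  obtain ⟨k, hk, hkv⟩ := rootGen_transitive (big_std hF (n := 6) (by norm_num))
    ((uni_base T).iso hv) ((uni_base T).ne hv) ((uni_base T).iso hw) ((uni_base T).ne hw)
  obtain ⟨c, hc⟩ := T.D.exists_lift (MonoidHom.mem_ker.1 (rootGen_le_ker_det hk))
  have e := (uni_base T).inj (hkv ▸ ctxPt_conj T hc hv) hw
  refine ⟨g * c * g⁻¹, (commute_conj_iff' g _ _).2 (commute_of_mem_cent T c), ?_⟩
  calc g * (c : G) * g⁻¹ * x * (g * (c : G) * g⁻¹)⁻¹
      = g * ((c : G) * (g⁻¹ * x * g) * (c : G)⁻¹) * g⁻¹ := by group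
    _ = y := by rw [e]; group

/-- Some non-commuting conjugates have a common neighbour. -/
theorem pair_of_ctx : ∀ a ∈ conjugatesOf T.d, ∃ b ∈ conjugatesOf T.d, ¬ Commute a b ∧
    (link (conjugatesOf T.d) a ∩ link (conjugatesOf T.d) b).Nonempty := by
  intro a ha
  obtain ⟨x₀, hx₀⟩ := exists_link_member T
  obtain ⟨g, rfl⟩ := isConj_iff.1 (show IsConj T.d a from ha)
  have hx := link_conj_mem' (class_conj T) g hx₀
  obtain ⟨P, U⟩ := uni_of_ctx T _ hx.1
  have ha' : g * T.d * g⁻¹ ∈ link (conjugatesOf T.d) (g * x₀ * g⁻¹) :=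
    ⟨ha, hx.2.1.symm, hx.2.2.symm⟩
  obtain ⟨v, hv⟩ := U.surj _ ha'
  obtain ⟨w, hvv, hww, hwv⟩ := exists_isotropic_partner (U.iso hv) (U.ne hv)
  have hw0 : w ≠ 0 := fun h => one_ne_zero (α := F) (by
    rw [← hwv, h, (stdHerm hF 6).zero_left])
  obtain ⟨b, hb⟩ := U.exists_pt w hww hw0
  have hbl := U.mem hb
  refine ⟨b, hbl.1, fun hc => ?_, g * x₀ * g⁻¹, hx, hx.1, hbl.2.1.symm, hbl.2.2.symm⟩
  have h0 := (stdHerm hF 6).h_comm_zero ((U.comm hv hb).1 hc)
  rw [hwv] at h0
  exact one_ne_zero h0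

end ctx

end CfsgLib.FischerRecog22
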