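import Cfsg.Agent.Lib.U6Cover.Code

set_option autoImplicit false

/-!
Coded vectors relative to a frame forming a path, and the certificates for closed sets of points.
-/

namespace CfsgLib.FischerRecog22

open CfsgLib.U6Cover (mul4 conj4 comp4 below)

/-- The code with six given digits. -/
def pack6 (a b c d e f : ℕ) : ℕ := a + 4 * b + 16 * c + 64 * d + 256 * e + 1024 * f

/-- A coded multiple. -/
def smul6 (c v : ℕ) : ℕ :=
  pack6 (mul4 c (comp4 v 0)) (mul4 c (comp4 v 1)) (mul4 c (comp4 v 2)) (mul4 c (comp4 v 3))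
    (mul4 c (comp4 v 4)) (mul4 c (comp4 v 5))

/-- One summand of the form. -/
def pair6 (v w i j : ℕ) : ℕ :=
  mul4 (comp4 v i) (conj4 (comp4 w j)) ^^^ mul4 (comp4 v j) (conj4 (comp4 w i))

/-- The form of a path. -/
def form6 (v w : ℕ) : ℕ :=
  pair6 v w 0 1 ^^^ pair6 v w 1 2 ^^^ pair6 v w 2 3 ^^^ pair6 v w 3 4 ^^^ pair6 v w 4 5

/-- The image of a point under another. -/
def refl6 (a b : ℕ) : ℕ := a ^^^ smul6 (form6 a b) b

/-- The first vector is no multiple of the second. -/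
def indep6 (a b : ℕ) : Bool :=
  (List.range 4).all fun m => (List.range 6).any fun i => !Nat.beq (form6 (a ^^^ smul6 m b) (4 ^ i)) 0

/-- Adjoining images of points already present. -/
def extend : List (ℕ × ℕ) → List ℕ → List ℕ
  | [], L => L
  | (i, j) :: st, L =>
    extend st (bif Nat.blt i L.length && Nat.blt j L.length
      then L ++ [refl6 (L.getD i 0) (L.getD j 0)] else L)

/-- The six codes form a path. -/
def pathCodes (f : ℕ → ℕ) : Bool :=
  (List.range 6).all fun i => (List.range 6).all fun j => Nat.beq i j ||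
    (Nat.beq (form6 (f i) (f j)) 0 == !(Nat.beq (i + 1) j || Nat.beq (j + 1) i))

/-- The six codes form a frame. -/
def frameCodes (f : ℕ → ℕ) : Bool :=
  (List.range 6).all fun i => (List.range 6).all fun j =>
    Nat.beq (form6 (f i) (f j)) (bif Nat.beq (i + 1) j || Nat.beq (j + 1) i then 1 else 0)

/-- A certificate: three collinear commuting points, a path, or a split along a line. -/
inductive Cert where
  | bad (st : List (ℕ × ℕ)) (a b k c m : ℕ)
  | path (st : List (ℕ × ℕ)) (p : List ℕ)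
  | split (st : List (ℕ × ℕ)) (i w : ℕ) (k0 k1 k2 k3 : Cert)

/-- The validity of a certificate; paths are accepted when `allow` holds. -/
def Cert.check (allow : Bool) : Cert → List ℕ → Bool
  | .bad st a b k c m, L =>
    (fun M => Nat.blt a M.length && Nat.blt b M.length && Nat.blt c M.length &&
      Nat.blt 0 k && Nat.blt k 4 && Nat.blt 0 m && Nat.blt m 4 &&
      Nat.beq (form6 (M.getD a 0) (M.getD b 0)) 0 && indep6 (M.getD a 0) (M.getD b 0) &&
      Nat.beq (smul6 m (M.getD c 0)) (M.getD a 0 ^^^ smul6 k (M.getD b 0))) (extend st L)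
  | .path st p, L =>
    (fun M => allow && ((List.range 6).all fun i => Nat.blt (p.getD i 0) M.length) &&
      pathCodes fun i => M.getD (p.getD i 0) 0) (extend st L)
  | .split st i w k0 k1 k2 k3, L =>
    (fun M => (fun x => Nat.blt i M.length && Nat.beq (form6 w w) 0 && Nat.beq (form6 x w) 0 &&
        indep6 w x && k0.check allow (M ++ [w ^^^ smul6 0 x]) &&
        k1.check allow (M ++ [w ^^^ smul6 1 x]) && k2.check allow (M ++ [w ^^^ smul6 2 x]) &&
        k3.check allow (M ++ [w ^^^ smul6 3 x])) (M.getD i 0)) (extend st L)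

/-- A certificate. -/
def certC : Cert :=
  .bad [(1, 0), (2, 1), (3, 2), (4, 3), (5, 4), (9, 6), (9, 7), (10, 8), (13, 11), (14, 12), (16, 15)] 0 2 1 17 1

/-- A certificate. -/
def certT : Cert :=
  .split [] 1 2112
  (.bad [(1, 0), (3, 2), (4, 3), (7, 4), (8, 6), (9, 7), (10, 5), (13, 12), (14, 11), (16, 15)] 0 2 1 17 2)
  (.bad [(3, 2), (4, 3), (5, 4), (6, 0), (9, 7), (10, 8), (12, 11), (14, 13)] 0 2 3 15 3)
  (.bad [(3, 2), (6, 0), (8, 7), (10, 9)] 0 2 2 11 2)
  (.bad [(1, 0), (2, 1), (3, 2), (5, 4), (8, 7), (9, 3), (9, 7), (10, 4), (13, 12), (14, 11), (17, 16)] 0 15 2 18 1)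

/-- A certificate. -/
def certX : Cert :=
  .split [] 4 18
  (.bad [(1, 0), (3, 2), (7, 1), (7, 3), (8, 2), (10, 9), (12, 11), (14, 13)] 0 2 1 15 2)
  (.bad [(2, 1), (5, 4), (6, 5), (7, 1), (8, 7), (11, 10), (12, 9), (14, 13)] 0 2 2 15 3)
  (.bad [(1, 0), (5, 4), (6, 5), (7, 1), (8, 7), (11, 10), (12, 9), (14, 13)] 0 2 2 15 3)
  (.bad [(2, 1), (4, 3), (6, 5), (7, 5), (8, 3), (8, 7), (10, 9), (12, 11), (13, 9), (16, 15)] 0 14 2 17 3)

/-- A certificate. -/
def certSplit : Cert :=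
  .split [(2, 1)] 6 2761
  (.bad [(6, 3), (7, 0), (7, 1), (7, 2), (9, 5), (10, 8), (11, 4), (14, 12)] 0 13 1 15 1)
  (.bad [(1, 0), (7, 0), (7, 4), (7, 5), (9, 3), (11, 8), (12, 10), (14, 13)] 0 2 1 15 2)
  (.split [] 7 421
  (.bad [(7, 4), (8, 0), (8, 1), (10, 2), (11, 9), (13, 12)] 0 2 1 14 2)
  (.bad [(7, 1), (7, 5), (8, 3), (9, 4), (11, 10), (13, 12)] 0 2 3 14 1)
  (.bad [(5, 4), (7, 5), (8, 1), (8, 2), (11, 10), (12, 9), (14, 13)] 0 3 2 15 3)
  (.bad [(1, 0), (6, 3), (7, 5), (8, 1), (11, 9), (12, 10), (14, 13)] 0 2 3 15 3))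
  (.bad [(6, 3), (7, 0), (7, 1), (7, 2), (9, 5), (10, 8), (11, 4), (14, 12)] 0 13 3 15 3)

/-- A certificate. -/
def certFive : Cert :=
  .split [] 0 256
  (.path [] [0, 1, 2, 3, 5, 4])
  (.split [(1, 0), (6, 2), (7, 5)] 8 1153
  (.bad [(5, 4), (9, 1), (9, 5), (11, 10), (12, 6), (14, 13)] 0 3 1 15 1)
  (.bad [(3, 2), (8, 4), (11, 9), (12, 10)] 0 2 2 13 1)
  (.path [(5, 1), (9, 5), (10, 3), (12, 11)] [0, 1, 2, 3, 13, 4])
  (.bad [(5, 1), (5, 3), (9, 1), (10, 4), (12, 11), (14, 13)] 0 2 2 15 3))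
  (.bad [(1, 0), (2, 1), (5, 1), (5, 3), (5, 4), (6, 2), (8, 3), (8, 4), (9, 7), (12, 11), (14, 13), (16, 15)] 0 10 2 17 2)
  (.bad [(1, 0), (2, 1), (5, 1), (5, 3), (5, 4), (6, 2), (8, 3), (8, 4), (9, 7), (12, 11), (14, 13), (16, 15)] 0 10 3 17 3)

theorem certC_ok : certC.check false [1, 4, 16, 64, 256, 1024, 1088] = true := by decide +kernel

theorem certT_ok : certT.check false [1, 4, 16, 64, 256, 1024, 1092] = true := by decide +kernel

theorem certX_ok : certX.check false [1, 4, 16, 64, 256, 1024, 273] = true := by decide +kernel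

theorem certSplit_ok : certSplit.check false [1, 4, 16, 64, 1024, 273] = true := by decide +kernel

theorem certFive_ok : certFive.check true [1, 4, 16, 64, 1024] = true := by decide +kernel

/-- The vector exchanging two isotropic vectors that are not orthogonal. -/
def swap6 (p q : ℕ) : ℕ := p ^^^ smul6 (form6 p q) q

/-- A frame whose last vector is a multiple of a given one. -/
def moveFrame (n i : ℕ) : ℕ :=
  bif Nat.beq (form6 n 1024) 0 then
    (fun m => refl6 (refl6 (4 ^ i) (swap6 m 1024)) (swap6 n m))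
      (([256, 390, 274, 260].find? fun m => !Nat.beq (form6 n m) 0).getD 0)
  else refl6 (4 ^ i) (swap6 n 1024)

theorem moveFrame_ok : (below 4096 fun n => Nat.beq n 0 || !Nat.beq (form6 n n) 0 ||
    (frameCodes (moveFrame n) &&
      (List.range 4).any fun k => Nat.blt 0 k && Nat.beq (moveFrame n 5) (smul6 k n))) = true := by
  decide +kernel

/-- The coefficients restoring the fifth vector of a sheared frame. -/
def shearFix (c : ℕ) : ℕ :=
  (fun t => pack6 (t 1 ^^^ t 3) (t 0) (t 3) (t 2 ^^^ t 0) 0 0) fun k => conj4 (comp4 c k)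

/-- A frame sheared along its last vector. -/
def shearFrame (c : ℕ) : ℕ → ℕ
  | 4 => (fun y => y ^^^ smul6 (bif Nat.beq (form6 y y) 0 then 0 else 2) 1024) (256 ^^^ shearFix c)
  | 5 => 1024
  | k => 4 ^ k ^^^ smul6 (comp4 c k) 1024

theorem shearFrame_ok : (below 256 fun c => frameCodes (shearFrame c)) = true := by decide +kernel

theorem line_ok : ((List.range 4).all fun k => Nat.beq (form6 (4 ^ k) (4 ^ k)) 0 &&
    Nat.beq (form6 1024 (4 ^ k)) 0 && indep6 (4 ^ k) 1024) = true := by decide +kernel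

/-- The standard coordinates of a path frame. -/
def baseMat (i k : ℕ) : ℕ :=
  [[0, 0, 0, 0, 2, 3], [0, 0, 1, 1, 1, 1], [0, 0, 2, 3, 0, 0], [1, 1, 1, 1, 0, 0],
    [2, 3, 0, 0, 0, 0], [1, 1, 0, 0, 0, 0]].getD i [] |>.getD k 0

theorem baseMat_ok : ((List.range 6).all fun i => (List.range 6).all fun j =>
    ((List.range 6).all fun k => Nat.blt (baseMat i k) 4) &&
    Nat.beq (mul4 (baseMat i 0) (conj4 (baseMat j 0)) ^^^ mul4 (baseMat i 1) (conj4 (baseMat j 1)) ^^^
      mul4 (baseMat i 2) (conj4 (baseMat j 2)) ^^^ mul4 (baseMat i 3) (conj4 (baseMat j 3)) ^^^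
      mul4 (baseMat i 4) (conj4 (baseMat j 4)) ^^^ mul4 (baseMat i 5) (conj4 (baseMat j 5)))
    (bif Nat.beq (i + 1) j || Nat.beq (j + 1) i then 1 else 0)) = true := by decide +kernel

end CfsgLib.FischerRecog22
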