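import Cfsg.Agent.Lib.FischerRecog22.Base
import Cfsg.Agent.Lib.FischerRecog22.SectCode
import Cfsg.Agent.Lib.FischerFi22.ReflPath
import Cfsg.Agent.Lib.U6Cover.Frame

set_option autoImplicit false

/-!
Sections of a link: they contain a path of six members, no forbidden member over a path, and no pair of
paths on four and two members.
-/

namespace CfsgLib.FischerRecog22

open CfsgLib.Classical.Herm HermSpace CfsgLib.UnitaryTransv
open CfsgLib.U6Cover (mul4 conj4 comp4 comp4_lt mul4_lt iota iota_inj iota_surj iota_xor iota_mul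
  iota_conj exists_omega below_spec)
open CfsgLib.ThreeTrans (link)
open CfsgLib.FischerFi22 (Uni UFrame Coord splitAdj vec h_comb h_sum_left)

attribute [-simp] stdHerm_h

universe u

variable {G : Type u} [Group G] {F : Type} [Field F] [Fintype F] {hF : Fintype.card F = 2 ^ 2}
  {D S : Set G} {a : G} {P : (Fin 6 → F) → G → Prop}

local notation "𝓗" => stdHerm hF 6

/-- The six vectors have the form of a path. -/
def Gram (hF : Fintype.card F = 2 ^ 2) (v : Fin 6 → Fin 6 → F) : Prop :=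
  ∀ i j : Fin 6, (stdHerm hF 6).h (v i) (v j) = if i.val + 1 = j.val ∨ j.val + 1 = i.val then 1 else 0

/-- The vector with a given code. -/
def ev (ω : F) (v : Fin 6 → Fin 6 → F) (n : ℕ) : Fin 6 → F := ∑ i : Fin 6, iota ω (comp4 n i.val) • v i

theorem comp4_eq (n i : ℕ) : comp4 n i = n / 4 ^ i % 4 := by
  rw [comp4, Nat.shiftRight_eq_div_pow, show (3 : ℕ) = 2 ^ 2 - 1 from rfl,
    Nat.and_two_pow_sub_one_eq_mod, show 2 ^ (2 * i) = 4 ^ i by rw [pow_mul]; norm_num]

theorem comp4_xor (a b i : ℕ) : comp4 (a ^^^ b) i = comp4 a i ^^^ comp4 b i := by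
  simp only [comp4, Nat.shiftRight_xor_distrib, Nat.and_xor_distrib_right]

theorem comp4_pack {a b c d e f : ℕ} (ha : a < 4) (hb : b < 4) (hc : c < 4) (hd : d < 4) (he : e < 4)
    (hf : f < 4) (i : Fin 6) : comp4 (pack6 a b c d e f) i.val = ![a, b, c, d, e, f] i := by
  rw [comp4_eq]
  fin_cases i <;> simp [pack6] <;> omega

theorem xor_lt4 {a b : ℕ} (ha : a < 4) (hb : b < 4) : a ^^^ b < 4 := Nat.xor_lt_two_pow (n := 2) ha hb

theorem comp4_smul (c n : ℕ) (i : Fin 6) : comp4 (smul6 c n) i.val = mul4 c (comp4 n i.val) := by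
  rw [smul6, comp4_pack (mul4_lt _ _) (mul4_lt _ _) (mul4_lt _ _) (mul4_lt _ _) (mul4_lt _ _) (mul4_lt _ _)]
  fin_cases i <;> rfl

theorem form6_lt (a b : ℕ) : form6 a b < 4 := by
  have h : ∀ i j, pair6 a b i j < 4 := fun i j => xor_lt4 (mul4_lt _ _) (mul4_lt _ _)
  exact xor_lt4 (xor_lt4 (xor_lt4 (xor_lt4 (h _ _) (h _ _)) (h _ _)) (h _ _)) (h _ _)

variable {ω : F} (hω : ω ^ 2 + ω + 1 = 0) {v : Fin 6 → Fin 6 → F}

include hF hω

theorem ev_xor (a b : ℕ) : ev ω v (a ^^^ b) = ev ω v a + ev ω v b := by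
  rw [ev, ev, ev, ← Finset.sum_add_distrib]
  refine Finset.sum_congr rfl fun i _ => ?_
  rw [comp4_xor, iota_xor hF hω (comp4_lt _ _) (comp4_lt _ _), add_smul]

theorem ev_smul {c : ℕ} (hc : c < 4) (a : ℕ) : ev ω v (smul6 c a) = iota ω c • ev ω v a := by
  rw [ev, ev, Finset.smul_sum]
  refine Finset.sum_congr rfl fun i _ => ?_
  rw [comp4_smul, iota_mul hF hω hc (comp4_lt _ _), mul_smul]

theorem iota_ne {m : ℕ} (h0 : 0 < m) (h4 : m < 4) : iota ω m ≠ 0 := fun h => by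
  have := iota_inj hF hω h4 (b := 0) (by norm_num) h
  omega

theorem h_ev (W : Gram hF v) (a b : ℕ) :
    (𝓗).h (ev ω v a) (ev ω v b) = iota ω (form6 a b) := by
  have hm : ∀ i j : ℕ, mul4 (comp4 a i) (conj4 (comp4 b j)) < 4 := fun i j => mul4_lt _ _
  have hp : ∀ i j, pair6 a b i j < 4 := fun i j => xor_lt4 (hm _ _) (hm _ _)
  have hcj : ∀ j, conj4 (comp4 b j) < 4 := fun j => mul4_lt _ _
  have ep : ∀ i j, iota ω (pair6 a b i j) = iota ω (comp4 a i) * iota ω (comp4 b j) ^ 2 +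
      iota ω (comp4 a j) * iota ω (comp4 b i) ^ 2 := fun i j => by
    rw [pair6, iota_xor hF hω (hm _ _) (hm _ _), iota_mul hF hω (comp4_lt _ _) (hcj _),
      iota_mul hF hω (comp4_lt _ _) (hcj _), iota_conj hF hω (comp4_lt _ _),
      iota_conj hF hω (comp4_lt _ _)]
  rw [ev, ev, h_comb, form6,
    iota_xor hF hω (xor_lt4 (xor_lt4 (xor_lt4 (hp _ _) (hp _ _)) (hp _ _)) (hp _ _)) (hp _ _),
    iota_xor hF hω (xor_lt4 (xor_lt4 (hp _ _) (hp _ _)) (hp _ _)) (hp _ _),
    iota_xor hF hω (xor_lt4 (hp _ _) (hp _ _)) (hp _ _),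
    iota_xor hF hω (hp _ _) (hp _ _)]
  simp only [W _ _, stdHerm_conj, ep, Fin.sum_univ_six]
  simp
  ring

theorem form6_zero_iff (W : Gram hF v) {a b : ℕ} :
    (𝓗).h (ev ω v a) (ev ω v b) = 0 ↔ form6 a b = 0 := by
  rw [h_ev hω W]
  exact ⟨fun h => iota_inj hF hω (form6_lt a b) (by norm_num) h, fun h => by rw [h]; rfl⟩

theorem indep_sound (W : Gram hF v) {a b : ℕ} (h : indep6 a b = true) (c : F) :
    ev ω v a ≠ c • ev ω v b := by
  intro e
  obtain ⟨m, hm, rfl⟩ := iota_surj hF hω c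
  have h0 : ev ω v (a ^^^ smul6 m b) = 0 := by
    rw [ev_xor (hF := hF) hω, ev_smul (hF := hF) hω hm, ← e, smul_add_self_zero hF]
  simp only [indep6, List.all_eq_true, List.any_eq_true, List.mem_range, Bool.not_eq_true',
    Nat.beq_eq] at h
  obtain ⟨i, -, hi⟩ := h m hm
  have : form6 (a ^^^ smul6 m b) (4 ^ i) = 0 :=
    (form6_zero_iff (hF := hF) hω W).1 (by rw [h0, (𝓗).zero_left])
  rw [this] at hi
  simp at hi

omit hω in
theorem vec_eq_ev (y : Fin 6 → ZMod 2) (n : ℕ) (h : ∀ i, comp4 n i.val = (y i).val) :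
    vec hF v y = ev ω v n := by
  refine Finset.sum_congr rfl fun i _ => ?_
  rw [h]
  congr 1
  generalize y i = t
  fin_cases t
  · exact map_zero _
  · exact map_one _

/-- A list of codes of members of a set. -/
def Mem (ω : F) (P : (Fin 6 → F) → G → Prop) (v : Fin 6 → Fin 6 → F) (S : Set G) (L : List ℕ) : Prop :=
  ∀ n ∈ L, ∃ y ∈ S, P (ev ω v n) y

omit hω in
theorem Mem.get {L : List ℕ} (h : Mem ω P v S L) {i : ℕ} (hi : i < L.length) :
    ∃ y ∈ S, P (ev ω v (L.getD i 0)) y := by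
  rw [List.getD_eq_getElem _ _ hi]
  exact h _ (List.getElem_mem hi)

theorem Mem.extend (U : Uni hF D a P) (hS : Sect hF P S) (W : Gram hF v) :
    ∀ (st : List (ℕ × ℕ)) (L : List ℕ), Mem ω P v S L → Mem ω P v S (extend st L) := by
  intro st
  induction st with
  | nil => exact fun L h => h
  | cons p st ih =>
    intro L h
    obtain ⟨i, j⟩ := p
    refine ih _ ?_
    cases hb : (Nat.blt i L.length && Nat.blt j L.length)
    · exact h
    · simp only [Bool.and_eq_true, Nat.blt_eq] at hb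
      obtain ⟨x, hxS, hx⟩ := Mem.get (hF := hF) h hb.1
      obtain ⟨y, hyS, hy⟩ := Mem.get (hF := hF) h hb.2
      intro n hn
      simp only [cond_true, List.mem_append, List.mem_singleton] at hn
      rcases hn with hn | rfl
      · exact h n hn
      · refine ⟨_, hS.refl x hxS y hyS, ?_⟩
        rw [refl6, ev_xor (hF := hF) hω, ev_smul (hF := hF) hω (form6_lt _ _), ← h_ev hω W]
        exact U.refl hx hy

theorem Cert.sound (U : Uni hF D a P) (hS : Sect hF P S) (W : Gram hF v) (allow : Bool) :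
    ∀ (k : Cert) (L : List ℕ), k.check allow L = true → Mem ω P v S L →
      allow = true ∧ ∃ x : Fin 6 → G, (∀ i, x i ∈ S) ∧
        ∀ i j : Fin 6, i ≠ j → (Commute (x i) (x j) ↔ ¬ (i.val + 1 = j.val ∨ j.val + 1 = i.val)) := by
  intro k
  induction k with
  | bad st a b k c m =>
    intro L h hL
    have hM := Mem.extend (hF := hF) hω U hS W st L hL
    simp only [Cert.check, Bool.and_eq_true, Nat.blt_eq, Nat.beq_eq] at h
    obtain ⟨⟨⟨⟨⟨⟨⟨⟨⟨ha, hb⟩, hc⟩, hk0⟩, hk4⟩, hm0⟩, hm4⟩, hab⟩, hne⟩, he⟩ := h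
    obtain ⟨x, hxS, hx⟩ := Mem.get (hF := hF) hM ha
    obtain ⟨y, hyS, hy⟩ := Mem.get (hF := hF) hM hb
    obtain ⟨z, hzS, hz⟩ := Mem.get (hF := hF) hM hc
    refine (hS.unique (c := iota ω k) hxS hyS hzS hx hy
      ((form6_zero_iff (hF := hF) hω W).2 hab) (fun e => ?_) (iota_ne (hF := hF) hω hk0 hk4) ?_).elim
    · obtain ⟨d, -, hd⟩ := U.uniq hy (e ▸ hx)
      exact indep_sound (hF := hF) hω W hne d hd
    · rw [← ev_smul (hF := hF) hω hk4, ← ev_xor (hF := hF) hω, ← he, ev_smul (hF := hF) hω hm4]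
      exact U.smul hz (iota_ne (hF := hF) hω hm0 hm4)
  | path st p =>
    intro L h hL
    have hM := Mem.extend (hF := hF) hω U hS W st L hL
    simp only [Cert.check, Bool.and_eq_true, List.all_eq_true, List.mem_range, Nat.blt_eq] at h
    obtain ⟨⟨hal, hp⟩, hpc⟩ := h
    choose x hxS hx using fun i : Fin 6 => Mem.get (hF := hF) hM (hp i.val i.isLt)
    refine ⟨hal, x, hxS, fun i j hij => ?_⟩
    simp only [pathCodes, List.all_eq_true, List.mem_range] at hpc
    have h1 := hpc i.val i.isLt j.val j.isLt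
    rw [U.comm (hx i) (hx j), form6_zero_iff (hF := hF) hω W]
    have hne : Nat.beq i.val j.val = false := by
      rw [Bool.eq_false_iff]; simpa using Fin.val_ne_of_ne hij
    rw [hne, Bool.false_or, beq_iff_eq] at h1
    rw [← Nat.beq_eq, h1]
    simp only [Bool.not_eq_true', Bool.or_eq_false_iff, not_or]
    simp only [← Bool.not_eq_true, Nat.beq_eq]
  | split st i w k0 k1 k2 k3 ih0 ih1 ih2 ih3 =>
    intro L h hL
    have hM := Mem.extend (hF := hF) hω U hS W st L hL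
    simp only [Cert.check, Bool.and_eq_true, Nat.blt_eq, Nat.beq_eq] at h
    obtain ⟨⟨⟨⟨⟨⟨⟨hi, hww⟩, hxw⟩, hind⟩, h0⟩, h1⟩, h2⟩, h3⟩ := h
    obtain ⟨x, hxS, hx⟩ := Mem.get (hF := hF) hM hi
    obtain ⟨c, y, hyS, hy⟩ := hS.line hxS hx ((form6_zero_iff (hF := hF) hω W).2 hww)
      ((form6_zero_iff (hF := hF) hω W).2 hxw) (indep_sound (hF := hF) hω W hind)
    obtain ⟨m, hm, rfl⟩ := iota_surj hF hω c
    rw [← ev_smul (hF := hF) hω hm, ← ev_xor (hF := hF) hω] at hy
    have hnew : Mem ω P v S (CfsgLib.FischerRecog22.extend st L ++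
        [w ^^^ smul6 m ((CfsgLib.FischerRecog22.extend st L).getD i 0)]) := by
      intro n hn
      simp only [List.mem_append, List.mem_singleton] at hn
      rcases hn with hn | rfl
      · exact hM n hn
      · exact ⟨y, hyS, hy⟩
    interval_cases m
    · exact ih0 _ h0 hnew
    · exact ih1 _ h1 hnew
    · exact ih2 _ h2 hnew
    · exact ih3 _ h3 hnew

theorem gram_of_codes (W : Gram hF v) {f : ℕ → ℕ} (h : frameCodes f = true) :
    Gram hF fun i => ev ω v (f i.val) := by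
  intro i j
  simp only [frameCodes, List.all_eq_true, List.mem_range, Nat.beq_eq] at h
  rw [h_ev hω W, h i.val i.isLt j.val j.isLt]
  by_cases he : i.val + 1 = j.val ∨ j.val + 1 = i.val
  · rw [if_pos he, show (Nat.beq (i.val + 1) j.val || Nat.beq (j.val + 1) i.val) = true by
      simpa [Bool.or_eq_true, Nat.beq_eq] using he]
    rfl
  · rw [if_neg he, show (Nat.beq (i.val + 1) j.val || Nat.beq (j.val + 1) i.val) = false by
      rw [Bool.eq_false_iff]; simpa [Bool.or_eq_true, Nat.beq_eq] using he]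
    rfl

omit hω in
theorem ev_single (i : Fin 6) : ev ω v (4 ^ i.val) = v i := by
  fin_cases i <;> simp [ev, Fin.sum_univ_six, comp4, iota]

theorem exists_code (W : Gram hF v) (u : Fin 6 → F) : ∃ n < 4096, ev ω v n = u := by
  have hb : Function.Bijective fun l : Fin 6 → F => ∑ i, l i • v i :=
    UFrame.comb_bijective (hF := hF) (P := fun _ (_ : PUnit.{1}) => True) (x := fun _ => PUnit.unit)
      ⟨fun _ => trivial, W⟩
  obtain ⟨l, rfl⟩ := hb.2 u
  choose d hd hdl using fun i => iota_surj hF hω (l i)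
  refine ⟨pack6 (d 0) (d 1) (d 2) (d 3) (d 4) (d 5), ?_, Finset.sum_congr rfl fun i _ => ?_⟩
  · have := hd 0; have := hd 1; have := hd 2; have := hd 3; have := hd 4; have := hd 5
    unfold pack6; omega
  · rw [comp4_pack (hd 0) (hd 1) (hd 2) (hd 3) (hd 4) (hd 5), ← hdl i]
    fin_cases i <;> rfl

theorem gram_base : Gram hF fun i k => iota ω (baseMat i.val k.val) := by
  intro i j
  have hb := baseMat_ok
  simp only [List.all_eq_true, List.mem_range, Bool.and_eq_true, Nat.blt_eq, Nat.beq_eq] at hb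
  have hlt : ∀ (i : Fin 6) k, k < 6 → baseMat i.val k < 4 := fun i k hk =>
    (hb i.val i.isLt i.val i.isLt).1 k hk
  have hm : ∀ k, mul4 (baseMat i.val k) (conj4 (baseMat j.val k)) < 4 := fun k => mul4_lt _ _
  have e := congrArg (iota ω) (hb i.val i.isLt j.val j.isLt).2
  rw [iota_xor hF hω (xor_lt4 (xor_lt4 (xor_lt4 (xor_lt4 (hm _) (hm _)) (hm _)) (hm _)) (hm _)) (hm _),
    iota_xor hF hω (xor_lt4 (xor_lt4 (xor_lt4 (hm _) (hm _)) (hm _)) (hm _)) (hm _),
    iota_xor hF hω (xor_lt4 (xor_lt4 (hm _) (hm _)) (hm _)) (hm _),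
    iota_xor hF hω (xor_lt4 (hm _) (hm _)) (hm _),
    iota_xor hF hω (hm _) (hm _)] at e
  have em : ∀ k, k < 6 → iota ω (mul4 (baseMat i.val k) (conj4 (baseMat j.val k))) =
      iota ω (baseMat i.val k) * iota ω (baseMat j.val k) ^ 2 := fun k hk => by
    rw [iota_mul hF hω (hlt i k hk) (show conj4 _ < 4 from mul4_lt _ _), iota_conj hF hω (hlt j k hk)]
  rw [stdHerm_h, Cfsg.hermForm, Fin.sum_univ_six]
  rw [em 0 (by norm_num), em 1 (by norm_num), em 2 (by norm_num), em 3 (by norm_num), em 4 (by norm_num),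
    em 5 (by norm_num)] at e
  refine e.trans ?_
  by_cases he : i.val + 1 = j.val ∨ j.val + 1 = i.val
  · rw [if_pos he, show (Nat.beq (i.val + 1) j.val || Nat.beq (j.val + 1) i.val) = true by
      simpa [Bool.or_eq_true, Nat.beq_eq] using he]
    rfl
  · rw [if_neg he, show (Nat.beq (i.val + 1) j.val || Nat.beq (j.val + 1) i.val) = false by
      rw [Bool.eq_false_iff]; simpa [Bool.or_eq_true, Nat.beq_eq] using he]
    rfl

omit hω

/-- No member of a section lies over the three sums along a path in it. -/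
theorem Sect.no_coord (U : Uni hF D a P) (hS : Sect hF P S) {x : Fin 6 → G}
    {v : Fin 6 → Fin 6 → F} (W : UFrame hF P x v) (hx : ∀ i, x i ∈ S) {z : G} (hz : z ∈ S)
    {y : Fin 6 → ZMod 2} (hy : y ∈ [![0,1,0,1,0,1], ![0,0,0,1,0,1], ![1,0,1,0,1,0]])
    (hc : Coord hF P v y z) : False := by
  obtain ⟨ω, hω⟩ := exists_omega hF
  have key : ∀ (n : ℕ) (k : Cert), vec hF v y = ev ω v n →
      k.check false [1, 4, 16, 64, 256, 1024, n] = true → False := by
    intro n k hn hk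
    refine Bool.false_ne_true (Cert.sound hω U hS W.gram false k _ hk ?_).1
    have hp : ∀ i : Fin 6, ∃ y ∈ S, P (ev ω v (4 ^ i.val)) y := fun i =>
      ⟨x i, hx i, by rw [ev_single (hF := hF)]; exact W.pts i⟩
    intro m hm
    simp only [List.mem_cons, List.not_mem_nil, or_false] at hm
    rcases hm with rfl | rfl | rfl | rfl | rfl | rfl | rfl
    exacts [hp 0, hp 1, hp 2, hp 3, hp 4, hp 5, ⟨z, hz, hn ▸ hc⟩]
  simp only [List.mem_cons, List.not_mem_nil, or_false] at hy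
  rcases hy with rfl | rfl | rfl
  · exact key 1092 certT (vec_eq_ev (hF := hF) _ _ (by decide)) certT_ok
  · exact key 1088 certC (vec_eq_ev (hF := hF) _ _ (by decide)) certC_ok
  · exact key 273 certX (vec_eq_ev (hF := hF) _ _ (by decide)) certX_ok

/-- A section has no six members forming paths on four and two. -/
theorem Sect.no_split (U : Uni hF D a P) (hS : Sect hF P S) (hSD : S ⊆ link D a) {y : Fin 6 → G}
    (hy : ∀ i, y i ∈ S) (hpat : ∀ i j, i ≠ j → (Commute (y i) (y j) ↔ splitAdj i j = 0)) : False := by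
  obtain ⟨ω, hω⟩ := exists_omega hF
  have step : ∀ (i j : Fin 6) w, i ≠ j → splitAdj i j ≠ 0 → P w (y i) →
      ∃ w', P w' (y j) ∧ (𝓗).h w w' = 1 := by
    intro i j w hij hs hw
    obtain ⟨w', hw'⟩ := U.surj _ (hSD (hy j))
    have hne : (𝓗).h w w' ≠ 0 := fun h0 => hs ((hpat i j hij).1 ((U.comm hw hw').2 h0))
    refine ⟨(𝓗).h w w' • w', U.smul hw' hne, ?_⟩
    rw [(𝓗).smul_right, stdHerm_conj]
    linear_combination CfsgLib.UnitaryTransv.pow_three hF hne
  obtain ⟨w₀, h₀⟩ := U.surj _ (hSD (hy 0))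
  obtain ⟨w₁, h₁, e₁⟩ := step 0 1 w₀ (by decide) (by decide) h₀
  obtain ⟨w₂, h₂, e₂⟩ := step 1 2 w₁ (by decide) (by decide) h₁
  obtain ⟨w₃, h₃, e₃⟩ := step 2 3 w₂ (by decide) (by decide) h₂
  obtain ⟨w₄, h₄⟩ := U.surj _ (hSD (hy 4))
  obtain ⟨w₅, h₅, e₅⟩ := step 4 5 w₄ (by decide) (by decide) h₄
  have z : ∀ {i j : Fin 6} {p q}, P p (y i) → P q (y j) → i ≠ j → splitAdj i j = 0 →
      (𝓗).h p q = 0 := fun hp hq hij hs => (U.comm hp hq).1 ((hpat _ _ hij).2 hs)
  have h22 := smul_add_self_zero hF (1 : F)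
  set v : Fin 6 → Fin 6 → F := ![w₀, w₁, w₂, w₃, w₅ + w₀ + w₂, w₄] with hv
  have W : Gram hF v := by
    intro i j
    fin_cases i <;> fin_cases j <;>
      simp [hv, (𝓗).add_left, (𝓗).add_right, U.iso h₀, U.iso h₁, U.iso h₂, U.iso h₃, U.iso h₄, U.iso h₅,
        e₁, e₂, e₃, e₅, (𝓗).h_comm_one e₁, (𝓗).h_comm_one e₂, (𝓗).h_comm_one e₃, (𝓗).h_comm_one e₅,
        z h₀ h₂ (by decide) (by decide), z h₀ h₃ (by decide) (by decide),
        z h₀ h₄ (by decide) (by decide), z h₀ h₅ (by decide) (by decide),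
        z h₁ h₃ (by decide) (by decide), z h₁ h₄ (by decide) (by decide),
        z h₁ h₅ (by decide) (by decide), z h₂ h₄ (by decide) (by decide),
        z h₂ h₅ (by decide) (by decide), z h₃ h₄ (by decide) (by decide),
        z h₃ h₅ (by decide) (by decide),
        z h₂ h₀ (by decide) (by decide), z h₃ h₀ (by decide) (by decide),
        z h₄ h₀ (by decide) (by decide), z h₅ h₀ (by decide) (by decide),
        z h₃ h₁ (by decide) (by decide), z h₄ h₁ (by decide) (by decide),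
        z h₅ h₁ (by decide) (by decide), z h₄ h₂ (by decide) (by decide),
        z h₅ h₂ (by decide) (by decide), z h₄ h₃ (by decide) (by decide),
        z h₅ h₃ (by decide) (by decide), h22]
  refine Bool.false_ne_true (Cert.sound hω U hS W false certSplit _ certSplit_ok ?_).1
  have hp : ∀ i : Fin 6, ev ω v (4 ^ i.val) = v i := ev_single (hF := hF)
  intro m hm
  simp only [List.mem_cons, List.not_mem_nil, or_false] at hm
  rcases hm with rfl | rfl | rfl | rfl | rfl | rfl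
  exacts [⟨_, hy 0, (hp 0).symm ▸ h₀⟩, ⟨_, hy 1, (hp 1).symm ▸ h₁⟩, ⟨_, hy 2, (hp 2).symm ▸ h₂⟩,
    ⟨_, hy 3, (hp 3).symm ▸ h₃⟩, ⟨_, hy 4, (hp 5).symm ▸ h₄⟩,
    ⟨_, hy 5, by
      rw [show (273 : ℕ) = 4 ^ (4 : Fin 6).val ^^^ 4 ^ (0 : Fin 6).val ^^^ 4 ^ (2 : Fin 6).val from rfl,
        ev_xor (hF := hF) hω, ev_xor (hF := hF) hω, hp, hp, hp]
      have e : v 4 + v 0 + v 2 = w₅ := by
        simp only [hv]
        show w₅ + w₀ + w₂ + w₀ + w₂ = w₅
        rw [show w₅ + w₀ + w₂ + w₀ + w₂ = w₅ + (w₀ + w₀) + (w₂ + w₂) by abel,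
          smul_add_self_zero hF, smul_add_self_zero hF, add_zero, add_zero]
      rw [e]; exact h₅⟩]

/-- A non-empty section contains six members forming a path. -/
theorem Sect.exists_path (U : Uni hF D a P) (hS : Sect hF P S) (hSD : S ⊆ link D a)
    (hne : S.Nonempty) : ∃ x : Fin 6 → G, (∀ i, x i ∈ S) ∧
      ∀ i j : Fin 6, i ≠ j → (Commute (x i) (x j) ↔ ¬ (i.val + 1 = j.val ∨ j.val + 1 = i.val)) := by
  obtain ⟨ω, hω⟩ := exists_omega hF
  obtain ⟨g, hg⟩ := hne
  obtain ⟨u, hu⟩ := U.surj _ (hSD hg)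
  have W₀ := gram_base (hF := hF) hω
  obtain ⟨n, hn, rfl⟩ := exists_code (hF := hF) hω W₀ u
  have hok := below_spec moveFrame_ok hn
  simp only [Bool.or_eq_true, Bool.and_eq_true, Nat.beq_eq, Bool.not_eq_true', List.any_eq_true,
    List.mem_range, Nat.blt_eq] at hok
  rcases hok with (h | h) | ⟨hfr, k, hk4, hk0, hk⟩
  · subst h
    refine absurd ?_ (U.ne hu)
    simp [ev, comp4, iota]
  · have := (form6_zero_iff (hF := hF) hω W₀).1 (U.iso hu)
    rw [this] at h
    simp at h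
  have W₁ := gram_of_codes (hF := hF) hω W₀ hfr
  set v₁ := fun i : Fin 6 => ev ω (fun i k => iota ω (baseMat i.val k.val)) (moveFrame n i.val)
  have hg5 : P (ev ω v₁ 1024) g := by
    rw [show (1024 : ℕ) = 4 ^ (5 : Fin 6).val from rfl, ev_single (hF := hF)]
    show P (ev ω _ (moveFrame n 5)) g
    rw [hk, ev_smul (hF := hF) hω hk4]
    exact U.smul hu (iota_ne (hF := hF) hω hk0 hk4)
  have hl := line_ok
  simp only [List.all_eq_true, List.mem_range, Bool.and_eq_true, Nat.beq_eq] at hl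
  have lift : ∀ k : Fin 4, ∃ m < 4, ∃ y ∈ S, P (ev ω v₁ (4 ^ k.val ^^^ smul6 m 1024)) y := by
    intro k
    obtain ⟨⟨h1, h2⟩, h3⟩ := hl k.val k.isLt
    obtain ⟨c, y, hyS, hy⟩ := hS.line hg hg5 ((form6_zero_iff (hF := hF) hω W₁).2 h1)
      ((form6_zero_iff (hF := hF) hω W₁).2 h2) (indep_sound (hF := hF) hω W₁ h3)
    obtain ⟨m, hm, rfl⟩ := iota_surj hF hω c
    exact ⟨m, hm, y, hyS, by rw [ev_xor (hF := hF) hω, ev_smul (hF := hF) hω hm]; exact hy⟩
  choose m hm y hyS hy using lift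
  set c := pack6 (m 0) (m 1) (m 2) (m 3) 0 0 with hc
  have hcl : c < 256 := by
    have := hm 0; have := hm 1; have := hm 2; have := hm 3
    unfold pack6 at hc; omega
  have W₂ := gram_of_codes (hF := hF) hω W₁ (below_spec shearFrame_ok hcl)
  have hcm : ∀ k : Fin 4, comp4 c k.val = m k := fun k => by
    rw [hc, show k.val = (k.castLE (by norm_num : 4 ≤ 6)).val from rfl,
      comp4_pack (hm 0) (hm 1) (hm 2) (hm 3) (by norm_num) (by norm_num)]
    fin_cases k <;> rfl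
  refine (Cert.sound hω U hS W₂ true certFive _ certFive_ok ?_).2
  intro q hq
  simp only [List.mem_cons, List.not_mem_nil, or_false] at hq
  rcases hq with rfl | rfl | rfl | rfl | rfl
  · refine ⟨y 0, hyS 0, ?_⟩
    rw [show (1 : ℕ) = 4 ^ (0 : Fin 6).val from rfl, ev_single (hF := hF)]
    show P (ev ω v₁ (4 ^ (0 : ℕ) ^^^ smul6 (comp4 c 0) 1024)) _
    rw [show comp4 c 0 = m 0 from hcm 0]; exact hy 0
  · refine ⟨y 1, hyS 1, ?_⟩
    show P (ev ω _ (4 ^ (1 : Fin 6).val)) _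
    rw [ev_single (hF := hF)]
    show P (ev ω v₁ (4 ^ (1 : ℕ) ^^^ smul6 (comp4 c 1) 1024)) _
    rw [show comp4 c 1 = m 1 from hcm 1]; exact hy 1
  · refine ⟨y 2, hyS 2, ?_⟩
    rw [show (16 : ℕ) = 4 ^ (2 : Fin 6).val from rfl, ev_single (hF := hF)]
    show P (ev ω v₁ (4 ^ (2 : ℕ) ^^^ smul6 (comp4 c 2) 1024)) _
    rw [show comp4 c 2 = m 2 from hcm 2]; exact hy 2
  · refine ⟨y 3, hyS 3, ?_⟩
    rw [show (64 : ℕ) = 4 ^ (3 : Fin 6).val from rfl, ev_single (hF := hF)]
    show P (ev ω v₁ (4 ^ (3 : ℕ) ^^^ smul6 (comp4 c 3) 1024)) _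
    rw [show comp4 c 3 = m 3 from hcm 3]; exact hy 3
  · refine ⟨g, hg, ?_⟩
    rw [show (1024 : ℕ) = 4 ^ (5 : Fin 6).val from rfl, ev_single (hF := hF)]
    exact hg5

end CfsgLib.FischerRecog22
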