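import Cfsg.Agent.Lib.FischerRecog22.Sect

set_option autoImplicit false

/-!
Products of pairwise commuting members of a link and their action on the unitary space.
-/

namespace CfsgLib.FischerRecog22

open CfsgLib.Classical.Herm HermSpace CfsgLib.UnitaryTransv
open CfsgLib.U6Cover (mul4 comp4 iota iota_surj exists_omega below below_spec)
open CfsgLib.ThreeTrans (link)
open CfsgLib.FischerFi22 (Uni)

attribute [-simp] stdHerm_h

universe u

variable {G : Type u} [Group G] {F : Type} [Field F] [Fintype F] {hF : Fintype.card F = 2 ^ 2}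
  {D : Set G} {a : G} {P : (Fin 6 → F) → G → Prop}

local notation "𝓗" => stdHerm hF 6

theorem third_ok : (below 4096 fun n => [1, 16, 17, 18, 19].any fun m =>
    Nat.beq (form6 m m) 0 && Nat.beq (form6 m 1024) 0 && Nat.beq (form6 m n) 0 &&
      ((List.range 4).all fun i => indep6 (m ^^^ smul6 i 1024) n)) = true := by decide +kernel

/-- A frame whose last vector is a multiple of the vector of a member. -/
theorem exists_frame_last {ω : F} (hω : ω ^ 2 + ω + 1 = 0) (U : Uni hF D a P) {u : Fin 6 → F} {g : G}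
    (hu : P u g) : ∃ v, Gram hF v ∧ ∃ k : F, k ≠ 0 ∧ ev ω v 1024 = k • u := by
  have W₀ := gram_base (hF := hF) hω
  obtain ⟨n, hn, rfl⟩ := exists_code (hF := hF) hω W₀ u
  have hok := below_spec moveFrame_ok hn
  simp only [Bool.or_eq_true, Bool.and_eq_true, Nat.beq_eq, Bool.not_eq_true', List.any_eq_true,
    List.mem_range, Nat.blt_eq] at hok
  rcases hok with (h | h) | ⟨hfr, k, hk4, hk0, hk⟩
  · subst h
    refine absurd ?_ (U.ne hu)
    simp [ev, comp4, iota]
  · have := (form6_zero_iff (hF := hF) hω W₀).1 (U.iso hu)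
    rw [this] at h
    simp at h
  refine ⟨_, gram_of_codes (hF := hF) hω W₀ hfr, iota ω k, iota_ne (hF := hF) hω hk0 hk4, ?_⟩
  rw [show (1024 : ℕ) = 4 ^ (5 : Fin 6).val from rfl, ev_single (hF := hF)]
  show ev ω _ (moveFrame n 5) = _
  rw [hk, ev_smul (hF := hF) hω hk4]

/-- A member orthogonal to two given ones and off their span. -/
theorem exists_third (U : Uni hF D a P) {v w : Fin 6 → F} {b : G} (hb : P v b) :
    ∃ (u : Fin 6 → F) (c : G), P u c ∧ (𝓗).h u v = 0 ∧ (𝓗).h u w = 0 ∧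
      ∀ i j : F, u ≠ i • v + j • w := by
  obtain ⟨ω, hω⟩ := exists_omega hF
  obtain ⟨f, W, k, hk0, hk⟩ := exists_frame_last hω U hb
  obtain ⟨n, hn, rfl⟩ := exists_code (hF := hF) hω W w
  have hok := below_spec third_ok hn
  simp only [List.any_eq_true, Bool.and_eq_true, Nat.beq_eq, List.all_eq_true, List.mem_range] at hok
  obtain ⟨m, -, ⟨⟨hmm, hmv⟩, hmn⟩, hind⟩ := hok
  have hind' : ∀ i j : F, ev ω f m ≠ i • v + j • ev ω f n := by
    intro i j e
    obtain ⟨t, ht, hti⟩ := iota_surj hF hω (i * k⁻¹)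
    refine indep_sound (hF := hF) hω W (hind t ht) j ?_
    rw [ev_xor (hF := hF) hω, ev_smul (hF := hF) hω ht, hti, hk, smul_smul, mul_assoc, inv_mul_cancel₀ hk0,
      mul_one, e, add_comm (i • v), add_assoc, smul_add_self_zero hF, add_zero]
  have hne : ev ω f m ≠ 0 := fun e => hind' 0 0 (by rw [e, zero_smul, zero_smul, add_zero])
  obtain ⟨c, hc⟩ := U.exists_pt _ ((form6_zero_iff (hF := hF) hω W).2 hmm) hne
  refine ⟨_, c, hc, ?_, (form6_zero_iff (hF := hF) hω W).2 hmn, hind'⟩
  have h1 := (form6_zero_iff (hF := hF) hω W).2 hmv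
  rw [hk, (𝓗).smul_right] at h1
  exact (mul_eq_zero.1 h1).resolve_left ((𝓗).conj_ne_zero hk0)

/-- A member of the link with its vector, or the base with the zero vector. -/
def Rel (P : (Fin 6 → F) → G → Prop) (a : G) (u : Fin 6 → F) (y : G) : Prop :=
  P u y ∨ (u = 0 ∧ y = a)

/-- The map of a list of vectors. -/
def sumMap (hF : Fintype.card F = 2 ^ 2) : List (Fin 6 → F) → (Fin 6 → F) →ₗ[F] (Fin 6 → F)
  | [] => 0
  | u :: l => ((stdHerm hF 6).form u).smulRight u + sumMap hF l

theorem sumMap_cons (u : Fin 6 → F) (l : List (Fin 6 → F)) (x : Fin 6 → F) :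
    sumMap hF (u :: l) x = (𝓗).h x u • u + sumMap hF l x := rfl

theorem h_sumMap {l : List (Fin 6 → F)} {w : Fin 6 → F} (hl : ∀ u ∈ l, (𝓗).h u w = 0) (x : Fin 6 → F) :
    (𝓗).h (sumMap hF l x) w = 0 := by
  induction l with
  | nil => exact (𝓗).zero_left w
  | cons u l ih =>
    rw [sumMap_cons, (𝓗).add_left, (𝓗).smul_left, hl u List.mem_cons_self,
      ih fun z hz => hl z (List.mem_cons_of_mem _ hz), mul_zero, add_zero]

theorem sumMap_sq {l : List (Fin 6 → F)} (hl : ∀ u ∈ l, ∀ w ∈ l, (𝓗).h u w = 0) (x : Fin 6 → F) :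
    sumMap hF l (sumMap hF l x) = 0 := by
  suffices ∀ k : List (Fin 6 → F), (∀ w ∈ k, w ∈ l) → sumMap hF k (sumMap hF l x) = 0 from
    this l fun w h => h
  intro k hk
  induction k with
  | nil => rfl
  | cons u k ih =>
    rw [sumMap_cons, h_sumMap (fun z hz => hl z hz u (hk u List.mem_cons_self)), zero_smul, zero_add,
      ih fun z hz => hk z (List.mem_cons_of_mem _ hz)]

/-- A product of pairwise commuting members acts by the sum of their maps. -/
theorem act_prod (U : Uni hF D a P) : ∀ l : List ((Fin 6 → F) × G),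
    (∀ e ∈ l, Rel P a e.1 e.2) → (∀ e ∈ l, ∀ f ∈ l, (𝓗).h e.1 f.1 = 0) → ∀ {v : Fin 6 → F} {x : G},
    P v x → P (v + sumMap hF (l.map Prod.fst) v) ((l.map Prod.snd).prod * x * (l.map Prod.snd).prod⁻¹) := by
  intro l
  induction l with
  | nil => intro _ _ v x hx; simpa [sumMap] using hx
  | cons e l ih =>
    intro hR ho v x hx
    have h1 := ih (fun z hz => hR z (List.mem_cons_of_mem _ hz))
      (fun z hz y hy => ho z (List.mem_cons_of_mem _ hz) y (List.mem_cons_of_mem _ hy)) hx
    have hh : (𝓗).h (sumMap hF (l.map Prod.fst) v) e.1 = 0 := h_sumMap (fun u hu => by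
      obtain ⟨z, hz, rfl⟩ := List.mem_map.1 hu
      exact ho z (List.mem_cons_of_mem _ hz) e List.mem_cons_self) v
    have e1 : ((e :: l).map Prod.snd).prod * x * ((e :: l).map Prod.snd).prod⁻¹ =
        e.2 * ((l.map Prod.snd).prod * x * (l.map Prod.snd).prod⁻¹) * e.2⁻¹ := by
      rw [List.map_cons, List.prod_cons]; group
    rw [e1, List.map_cons, sumMap_cons]
    rcases hR e List.mem_cons_self with h | ⟨h, h'⟩
    · have h2 := U.refl h1 h
      rw [(𝓗).add_left, hh, add_zero] at h2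
      convert h2 using 1
      abel
    · rw [h, h', smul_zero, zero_add, CfsgLib.ThreeTrans.conj_self_of_commute (U.mem h1).2.2]
      exact h1

/-- The maps of a trivial product sum to zero. -/
theorem sum_eq_zero (U : Uni hF D a P) (l : List ((Fin 6 → F) × G)) (hR : ∀ e ∈ l, Rel P a e.1 e.2)
    (ho : ∀ e ∈ l, ∀ f ∈ l, (𝓗).h e.1 f.1 = 0) (h1 : (l.map Prod.snd).prod = 1) (x : Fin 6 → F) :
    sumMap hF (l.map Prod.fst) x = 0 := by
  obtain ⟨ω, hω⟩ := exists_omega hF
  set A := sumMap hF (l.map Prod.fst)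
  have hiso : ∀ {v y}, P v y → A v = 0 := by
    intro v y hy
    have h := act_prod U l hR ho hy
    rw [h1, one_mul, inv_one, mul_one] at h
    obtain ⟨c, hc, e⟩ := U.uniq hy h
    have hA : A v = (c - 1) • v := by rw [sub_smul, one_smul, ← e, add_sub_cancel_left]
    have h2 : A (A v) = 0 := sumMap_sq (fun u hu w hw => by
      obtain ⟨e, he, rfl⟩ := List.mem_map.1 hu
      obtain ⟨f, hf, rfl⟩ := List.mem_map.1 hw
      exact ho e he f hf) v
    rw [hA, map_smul, hA, smul_smul] at h2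
    have h3 : c - 1 = 0 := mul_self_eq_zero.1 ((smul_eq_zero.1 h2).resolve_right (U.ne hy))
    rw [hA, h3, zero_smul]
  have W₀ := gram_base (hF := hF) hω
  obtain ⟨n, -, rfl⟩ := exists_code (hF := hF) hω W₀ x
  rw [ev, map_sum]
  refine Finset.sum_eq_zero fun i _ => ?_
  rw [map_smul]
  by_cases hv : (fun k : Fin 6 => iota ω (baseMat i.val k.val)) = 0
  · rw [hv, map_zero, smul_zero]
  obtain ⟨y, hy⟩ := U.exists_pt _ (by rw [W₀ i i, if_neg (by omega)]) hv
  rw [hiso hy, smul_zero]

/-- Independent vectors in a vanishing sum lie in the span of the others. -/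
theorem mem_of_sum_zero {k : ℕ} {v : Fin k → Fin 6 → F} (hli : LinearIndependent F v)
    (S : Submodule F (Fin 6 → F))
    (h : ∀ x, (∀ s ∈ S, (𝓗).h x s = 0) → ∑ i, (𝓗).h x (v i) • v i = 0) (i : Fin k) : v i ∈ S := by
  by_contra hi
  obtain ⟨x, hx, hx1⟩ := CfsgLib.FischerUnique.exists_dual_vec (H := stdHerm hF 6) hi
  have := Fintype.linearIndependent_iff.1 hli _ (h x hx) i
  rw [hx1] at this
  exact one_ne_zero this

theorem Uni.li_two (U : Uni hF D a P) {v w : Fin 6 → F} {b c : G} (hb : P v b) (hc : P w c)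
    (hbc : b ≠ c) : LinearIndependent F ![v, w] := by
  rw [Fintype.linearIndependent_iff]
  intro g hg
  simp only [Fin.sum_univ_two, Matrix.cons_val_zero, Matrix.cons_val_one] at hg
  have h0 : g 0 = 0 := by
    by_contra h0
    by_cases h1 : g 1 = 0
    · rw [h1, zero_smul, add_zero] at hg
      exact U.ne hb ((smul_eq_zero.1 hg).resolve_left h0)
    · have e : g 0 • v = g 1 • w := by
        rw [← add_zero (g 0 • v), ← smul_add_self_zero hF (g 1 • w), ← add_assoc, hg, zero_add]
      exact hbc (U.inj (U.smul hb h0) (e ▸ U.smul hc h1))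
  have h1 : g 1 = 0 := by
    rw [h0, zero_smul, zero_add] at hg
    exact (smul_eq_zero.1 hg).resolve_right (U.ne hc)
  intro i
  fin_cases i <;> assumption

/-- The product of two commuting members is no member. -/
theorem prod_two_not_mem (U : Uni hF D a P) (hinv : ∀ x ∈ D, x * x = 1) (hne : ∀ x ∈ D, x ≠ 1) {b d : G}
    (hb : b ∈ link D a) (hd : d ∈ D) (he : a * b = d) : False := by
  have hbb := hinv b hb.1
  have hdd := hinv d hd
  have hab : a ≠ b := Ne.symm hb.2.1
  have had : Commute a d := he ▸ (Commute.refl a).mul_right hb.2.2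
  have hda : d ≠ a := fun e => hne b hb.1 (mul_left_cancel (he.trans (e.trans (mul_one a).symm)))
  obtain ⟨v, hv⟩ := U.surj b hb
  obtain ⟨w, hw⟩ := U.surj d ⟨hd, hda, had⟩
  have hbd : b ≠ d := fun e => hne a U.base (mul_right_cancel (he.trans (e.symm.trans (one_mul b).symm)))
  have hcom : Commute b d := he ▸ hb.2.2.symm.mul_right (Commute.refl b)
  have hz := sum_eq_zero U [(0, a), (v, b), (w, d)]
    (by simp [Rel, hv, hw])
    (by simp [(𝓗).zero_left, (𝓗).zero_right, U.iso hv, U.iso hw, (U.comm hv hw).1 hcom,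
      (U.comm hw hv).1 hcom.symm])
    (by simp only [List.map_cons, List.map_nil, List.prod_cons, List.prod_nil, mul_one]; rw [← mul_assoc, he, hdd])
  have := mem_of_sum_zero (hF := hF) (Uni.li_two U hv hw hbd) ⊥ (fun x _ => by
    have := hz x
    simpa [Fin.sum_univ_two, sumMap, (𝓗).zero_right] using this) 0
  exact U.ne hv ((Submodule.mem_bot F).1 this)

/-- The product of three commuting members is no member. -/
theorem prod_three_not_mem (U : Uni hF D a P) (hinv : ∀ x ∈ D, x * x = 1) {b c d : G} (hb : b ∈ link D a)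
    (hc : c ∈ link D a) (hbc : Commute b c) (hne : b ≠ c) (hd : d ∈ D) (he : a * b * c = d) : False := by
  have hdd := hinv d hd
  have hbd : Commute b d := he ▸ (hb.2.2.symm.mul_right (Commute.refl b)).mul_right hbc
  have hcd : Commute c d := he ▸ (hc.2.2.symm.mul_right hbc.symm).mul_right (Commute.refl c)
  have had : Commute a d := he ▸ ((Commute.refl a).mul_right hb.2.2).mul_right hc.2.2
  obtain ⟨v, hv⟩ := U.surj b hb
  obtain ⟨w, hw⟩ := U.surj c hc
  obtain ⟨u, hu⟩ : ∃ u, Rel P a u d := by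
    by_cases h : d = a
    · exact ⟨0, Or.inr ⟨rfl, h⟩⟩
    · obtain ⟨u, hu⟩ := U.surj d ⟨hd, h, had⟩
      exact ⟨u, Or.inl hu⟩
  have hru : ∀ {z s}, P z s → Commute s d → (𝓗).h z u = 0 ∧ (𝓗).h u z = 0 := by
    intro z s hz hs
    rcases hu with h | ⟨h, -⟩
    · exact ⟨(U.comm hz h).1 hs, (U.comm h hz).1 hs.symm⟩
    · exact ⟨by rw [h, (𝓗).zero_right], by rw [h, (𝓗).zero_left]⟩
  have huu : (𝓗).h u u = 0 := by
    rcases hu with h | ⟨h, -⟩
    · exact U.iso h
    · rw [h, (𝓗).zero_left]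
  have hz := sum_eq_zero U [(0, a), (v, b), (w, c), (u, d)]
    (by simp only [List.mem_cons, List.not_mem_nil, or_false]; rintro e (rfl | rfl | rfl | rfl)
        exacts [Or.inr ⟨rfl, rfl⟩, Or.inl hv, Or.inl hw, hu])
    (by simp [(𝓗).zero_left, (𝓗).zero_right, U.iso hv, U.iso hw, huu, (U.comm hv hw).1 hbc,
      (U.comm hw hv).1 hbc.symm, hru hv hbd, hru hw hcd])
    (by simp only [List.map_cons, List.map_nil, List.prod_cons, List.prod_nil, mul_one]
        rw [← mul_assoc, ← mul_assoc, he, hdd])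
  have hm := mem_of_sum_zero (hF := hF) (Uni.li_two U hv hw hne) (Submodule.span F {u}) (fun x hx => by
    have := hz x
    simpa [Fin.sum_univ_two, sumMap, (𝓗).zero_right, hx u (Submodule.mem_span_singleton_self u)] using this)
  obtain ⟨i, hi⟩ := Submodule.mem_span_singleton.1 (hm 0)
  obtain ⟨j, hj⟩ := Submodule.mem_span_singleton.1 (hm 1)
  simp only [Matrix.cons_val_zero, Matrix.cons_val_one] at hi hj
  have hi0 : i ≠ 0 := fun h => U.ne hv (by rw [← hi, h, zero_smul])
  have hj0 : j ≠ 0 := fun h => U.ne hw (by rw [← hj, h, zero_smul])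
  rcases hu with h | ⟨h, -⟩
  · exact hne (U.inj (hi ▸ hv) (U.smul h hi0) |>.trans (U.inj (hj ▸ hw) (U.smul h hj0)).symm)
  · exact U.ne hv (by rw [← hi, h, smul_zero])

/-- Three independent commuting members have no product equal to a product of two. -/
theorem no_five (U : Uni hF D a P) (hinv : ∀ x ∈ D, x * x = 1) {v w u : Fin 6 → F} {b c p d e : G}
    (hv : P v b) (hw : P w c) (hp : P u p) (hind : LinearIndependent F ![v, w, u])
    (hd : d ∈ D) (he : e ∈ D)
    (hcomm : ∀ x ∈ [a, b, c, p, d, e], ∀ y ∈ [a, b, c, p, d, e], Commute x y)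
    (h1 : p * (d * e) = a * (b * c) ∨ p * (d * e) = b * c) : False := by
  have rel : ∀ z ∈ D, Commute a z → ∃ t, Rel P a t z := by
    intro z hz haz
    by_cases h : z = a
    · exact ⟨0, Or.inr ⟨rfl, h⟩⟩
    · obtain ⟨t, ht⟩ := U.surj z ⟨hz, h, haz⟩
      exact ⟨t, Or.inl ht⟩
  obtain ⟨s, hs⟩ := rel d hd (hcomm a (by simp) d (by simp))
  obtain ⟨t, ht⟩ := rel e he (hcomm a (by simp) e (by simp))
  have orth : ∀ {y z : Fin 6 → F} {q r : G}, Rel P a y q → Rel P a z r → Commute q r → (𝓗).h y z = 0 := by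
    intro y z q r hy hz hqr
    rcases hy with hy | ⟨hy, -⟩
    · rcases hz with hz | ⟨hz, -⟩
      · exact (U.comm hy hz).1 hqr
      · rw [hz, (𝓗).zero_right]
    · rw [hy, (𝓗).zero_left]
  have sq : ∀ z ∈ D, z⁻¹ = z := fun z hz => inv_eq_of_mul_eq_one_left (hinv z hz)
  have hrev : (d * e)⁻¹ = e * d := by rw [mul_inv_rev, sq d hd, sq e he]
  obtain ⟨l, hl, hlp⟩ : ∃ l : List ((Fin 6 → F) × G),
      (∀ r ∈ l, r ∈ [(0, a), (v, b), (w, c), (u, p), (s, d), (t, e)]) ∧
      (l.map Prod.snd).prod = 1 ∧ ∀ x, sumMap hF (l.map Prod.fst) x =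
        (𝓗).h x v • v + (𝓗).h x w • w + (𝓗).h x u • u + ((𝓗).h x t • t + (𝓗).h x s • s) := by
    have hpp : p⁻¹ = p := sq p (U.mem hp).1
    rcases h1 with h | h
    · refine ⟨[(0, a), (v, b), (w, c), (t, e), (s, d), (u, p)], by simp, ?_, fun x => ?_⟩
      · simp only [List.map_cons, List.map_nil, List.prod_cons, List.prod_nil, mul_one]
        calc a * (b * (c * (e * (d * p)))) = a * (b * c) * ((e * d) * p) := by group
          _ = p * (d * e) * ((d * e)⁻¹ * p⁻¹) := by rw [← h, hrev, hpp]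
          _ = 1 := by group
      · simp [sumMap, (𝓗).zero_right]; abel
    · refine ⟨[(v, b), (w, c), (t, e), (s, d), (u, p)], by simp, ?_, fun x => ?_⟩
      · simp only [List.map_cons, List.map_nil, List.prod_cons, List.prod_nil, mul_one]
        calc b * (c * (e * (d * p))) = b * c * ((e * d) * p) := by group
          _ = p * (d * e) * ((d * e)⁻¹ * p⁻¹) := by rw [← h, hrev, hpp]
          _ = 1 := by group
      · simp [sumMap]; abel
  have hR : ∀ r ∈ [((0 : Fin 6 → F), a), (v, b), (w, c), (u, p), (s, d), (t, e)],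
      Rel P a r.1 r.2 ∧ r.2 ∈ [a, b, c, p, d, e] := by
    simp only [List.mem_cons, List.not_mem_nil, or_false]
    rintro r (rfl | rfl | rfl | rfl | rfl | rfl)
    exacts [⟨Or.inr ⟨rfl, rfl⟩, by simp⟩, ⟨Or.inl hv, by simp⟩, ⟨Or.inl hw, by simp⟩,
      ⟨Or.inl hp, by simp⟩, ⟨hs, by simp⟩, ⟨ht, by simp⟩]
  have hz := sum_eq_zero U l (fun r hr => (hR r (hl r hr)).1)
    (fun r hr q hq => orth (hR r (hl r hr)).1 (hR q (hl q hq)).1
      (hcomm _ (hR r (hl r hr)).2 _ (hR q (hl q hq)).2)) hlp.1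
  have hm := mem_of_sum_zero (hF := hF) hind (Submodule.span F {s, t}) (fun x hx => by
    have h0 := hz x
    rw [hlp.2, hx s (Submodule.subset_span (by simp)), hx t (Submodule.subset_span (by simp)),
      zero_smul, zero_smul, add_zero, add_zero] at h0
    simpa [Fin.sum_univ_three] using h0)
  have h3 := finrank_span_eq_card hind
  have hle : Submodule.span F (Set.range ![v, w, u]) ≤ Submodule.span F {s, t} :=
    Submodule.span_le.2 (by rintro _ ⟨i, rfl⟩; exact hm i)
  have h2 := Submodule.finrank_mono hle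
  classical
  have h4 : Module.finrank F (Submodule.span F ({s, t} : Set (Fin 6 → F))) ≤ 2 := by
    have := (finrank_span_finset_le_card (R := F) ({s, t} : Finset (Fin 6 → F))).trans Finset.card_le_two
    rwa [Finset.coe_insert, Finset.coe_singleton] at this
  rw [h3, Fintype.card_fin] at h2
  omega

end CfsgLib.FischerRecog22
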